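import Mathlib

/-!
Elementary inequalities for sums of powers.
-/

set_option autoImplicit false

namespace Cfsg.Lib.Known.MaxOrder

open Finset

/-- `1 + a + ⋯ + a ^ (d-1)`. -/
def geo (d a : ℕ) : ℕ := ∑ i ∈ range d, a ^ i

theorem geo_succ (d a : ℕ) : geo (d + 1) a = 1 + a * geo d a := by
  rw [geo, geo, sum_range_succ', mul_sum, add_comm, pow_zero]
  exact congrArg _ (sum_congr rfl fun i _ => by ring)

theorem geo_zero (a : ℕ) : geo 0 a = 0 := rfl

theorem geo_mul {a : ℕ} (ha : 1 ≤ a) (d : ℕ) : (a - 1) * geo d a + 1 = a ^ d := by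
  obtain ⟨b, rfl⟩ := Nat.exists_eq_add_of_le ha
  induction d with
  | zero => simp [geo_zero]
  | succ d ih =>
    rw [Nat.add_sub_cancel_left] at ih ⊢
    rw [geo_succ, pow_succ', ← ih]
    ring

/-- The general step: if `c · geo d a ≤ geo d b` and `c * a ≤ b` ... -/
theorem geo_step {a b c d : ℕ} (ha : 1 ≤ a) (hab : 2 * a ≤ b) (hd : 1 ≤ d) (h : c * geo d a ≤ geo d b) :
    c * geo (d + 1) a ≤ geo (d + 1) b := by
  have h1 : 1 ≤ geo d a := by
    obtain ⟨e, rfl⟩ := Nat.exists_eq_add_of_le hd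
    rw [add_comm, geo_succ]
    omega
  rw [geo_succ, geo_succ]
  nlinarith [Nat.mul_le_mul_left b h, Nat.mul_le_mul_left c (Nat.mul_le_mul ha h1)]

theorem lin_base {a : ℕ} (ha : 2 ≤ a) : ∀ e : ℕ, 3 ≤ e → e * (1 + a) ≤ 1 + a ^ e := by
  intro e he
  induction e, he using Nat.le_induction with
  | base => nlinarith [Nat.mul_le_mul ha (Nat.mul_le_mul ha le_rfl : 2 * a ≤ a * a)]
  | succ e he ih =>
    have h1 : a + 1 ≤ a ^ e := by
      have := Nat.pow_le_pow_right (show 1 ≤ a by omega) (show 2 ≤ e by omega)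
      nlinarith
    have h2 : 2 * a ^ e ≤ a ^ (e + 1) := by rw [pow_succ']; exact Nat.mul_le_mul_right _ ha
    nlinarith

theorem lin_two {a e : ℕ} (ha : 2 ≤ a) (he : 1 ≤ e) (hex : ¬ (a = 2 ∧ e = 2)) :
    e * geo 2 a ≤ geo 2 (a ^ e) := by
  have h : ∀ x, geo 2 x = 1 + x := fun x => by simp [geo, sum_range_succ]
  rw [h, h]
  rcases (by omega : e = 1 ∨ e = 2 ∨ 3 ≤ e) with rfl | rfl | h3
  · simp
  · have : 3 ≤ a := by omega
    nlinarith
  · exact lin_base ha e h3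

theorem two_mul_le_pow {a e : ℕ} (ha : 2 ≤ a) (he : 2 ≤ e) : 2 * a ≤ a ^ e :=
  le_trans (Nat.mul_le_mul_right a ha) (le_trans (le_of_eq (sq a).symm) (Nat.pow_le_pow_right (by omega) he))

theorem lin_three {a e : ℕ} (ha : 2 ≤ a) (he : 1 ≤ e) : e * geo 3 a ≤ geo 3 (a ^ e) := by
  by_cases hex : a = 2 ∧ e = 2
  · obtain ⟨rfl, rfl⟩ := hex
    decide
  rcases (by omega : e = 1 ∨ 2 ≤ e) with rfl | h2
  · simp
  exact geo_step (by omega) (two_mul_le_pow ha h2) (by norm_num) (lin_two ha he hex)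

theorem lin_le {a e d : ℕ} (ha : 2 ≤ a) (he : 1 ≤ e) (hd : 2 ≤ d) (hex : ¬ (a = 2 ∧ e = 2 ∧ d = 2)) :
    e * geo d a ≤ geo d (a ^ e) := by
  rcases (by omega : e = 1 ∨ 2 ≤ e) with rfl | h2
  · simp
  rcases (by omega : d = 2 ∨ 3 ≤ d) with rfl | h3
  · exact lin_two ha he fun h => hex ⟨h.1, h.2, rfl⟩
  induction d, h3 using Nat.le_induction with
  | base => exact lin_three ha he
  | succ d hd3 ih => exact geo_step (by omega) (two_mul_le_pow ha h2) (by omega) (ih (by omega) (by omega))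

theorem graph_le {a e d : ℕ} (ha : 2 ≤ a) (he : 2 ≤ e) (hex : ¬ (a = 2 ∧ e = 2)) (hd : 3 ≤ d) :
    2 * e * geo d a ≤ geo d (a ^ e) := by
  induction d, hd using Nat.le_induction with
  | base =>
    have h : ∀ x, geo 3 x = 1 + x * (1 + x) := fun x => by simp [geo, sum_range_succ]; ring
    rw [h, h]
    rcases (by omega : e = 2 ∨ 3 ≤ e) with rfl | h3
    · have h3 : 3 ≤ a := by omega
      nlinarith [Nat.mul_le_mul h3 h3, Nat.mul_le_mul (Nat.mul_le_mul h3 h3) (Nat.mul_le_mul h3 h3)]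
    · have h1 := lin_base ha e h3
      have h2 : 2 * a ≤ a ^ e := two_mul_le_pow ha he
      have h8 : 8 ≤ a ^ e :=
        le_trans (by norm_num) (le_trans (Nat.pow_le_pow_left ha 3) (Nat.pow_le_pow_right (by omega) h3))
      nlinarith [Nat.mul_le_mul h2 h1, Nat.mul_le_mul h8 (le_refl (a ^ e))]
  | succ d hd ih => exact geo_step (by omega) (two_mul_le_pow ha he) (by omega) ih

theorem herm_le {r d : ℕ} (hr : 2 ≤ r) (hd : 3 ≤ d) : 2 * (r + 1) ^ (d - 1) ≤ geo d (r ^ 2) := by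
  induction d, hd using Nat.le_induction with
  | base =>
    have h : ∀ x, geo 3 x = 1 + x * (1 + x) := fun x => by simp [geo, sum_range_succ]; ring
    rw [h]
    show 2 * (r + 1) ^ 2 ≤ _
    nlinarith [Nat.mul_le_mul hr hr, Nat.mul_le_mul (Nat.mul_le_mul hr hr) (Nat.mul_le_mul hr hr)]
  | succ d hd ih =>
    rw [geo_succ, show d + 1 - 1 = (d - 1) + 1 by omega, pow_succ]
    have hh : r + 1 ≤ r ^ 2 := by nlinarith
    nlinarith [Nat.mul_le_mul ih hh]

theorem orth_small {q : ℕ} : ∀ d : ℕ, (3 ≤ d ∧ d < 12) → (q = 2 ∨ q = 3 ∨ q = 4) →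
    ¬ (q = 2 ∧ (d = 3 ∨ d = 4 ∨ d = 5 ∨ d = 6 ∨ d = 8)) → ¬ (q = 3 ∧ (d = 3 ∨ d = 4)) → ¬ (q = 4 ∧ d = 4) →
    4 * (q + 1) ^ (d / 2) ≤ geo d q := by
  rintro d ⟨h3, h12⟩ (rfl | rfl | rfl) he1 he2 he3 <;> interval_cases d <;>
    first | (exact absurd (by decide) he1) | (exact absurd (by decide) he2) | (exact absurd (by decide) he3) | decide

theorem geo_two_step {q d : ℕ} (hq : 2 ≤ q) (h : 4 * (q + 1) ^ (d / 2) ≤ geo d q) :
    4 * (q + 1) ^ ((d + 2) / 2) ≤ geo (d + 2) q := by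
  rw [geo_succ, geo_succ, show (d + 2) / 2 = d / 2 + 1 by omega, pow_succ]
  have hh : q + 1 ≤ q * q := by nlinarith
  nlinarith [Nat.mul_le_mul h hh]

theorem orth_le {q : ℕ} (hq : 2 ≤ q) : ∀ d : ℕ, 3 ≤ d →
    ¬ (q = 2 ∧ (d = 3 ∨ d = 4 ∨ d = 5 ∨ d = 6 ∨ d = 8)) → ¬ (q = 3 ∧ (d = 3 ∨ d = 4)) → ¬ (q = 4 ∧ d = 4) →
    4 * (q + 1) ^ (d / 2) ≤ geo d q := by
  intro d
  induction d using Nat.strong_induction_on with
  | _ d ih =>
    intro hd he1 he2 he3
    by_cases h4 : q ≤ 4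
    · by_cases h12 : d < 12
      · exact orth_small d ⟨hd, h12⟩ (by omega) he1 he2 he3
      · obtain ⟨e, rfl⟩ : ∃ e, d = e + 2 := ⟨d - 2, by omega⟩
        exact geo_two_step hq (ih e (by omega) (by omega) (by omega) (by omega) (by omega))
    · by_cases h5 : d < 5
      · have h : 5 ≤ q := by omega
        interval_cases d <;> simp [geo, sum_range_succ] <;> nlinarith [Nat.mul_le_mul h h]
      · obtain ⟨e, rfl⟩ : ∃ e, d = e + 2 := ⟨d - 2, by omega⟩
        exact geo_two_step hq (ih e (by omega) (by omega) (by omega) (by omega) (by omega))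

end Cfsg.Lib.Known.MaxOrder
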