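import Cfsg.Agent.Known.AutPSLn.MaxOrder.Units

/-!
Norms on commutative algebras with involution, and the resulting bounds on norm-one units.
-/

set_option autoImplicit false

namespace Cfsg.Lib.Known.MaxOrder

open Module

/-- The norm form `x² + x y + c y²` represents everything over a finite field extension of `k`. -/
theorem form_surj_field {K : Type*} [Field K] [Finite K] (c : K) (hc : 1 - 4 * c ≠ 0) (b : K) :
    ∃ x y : K, x * x + x * y + c * (y * y) = b := by
  have := Fintype.ofFinite K
  by_cases h2 : (2 : K) = 0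
  · have : CharP K 2 := CharTwo.of_one_ne_zero_of_two_eq_zero one_ne_zero h2
    have hp : ringChar K = 2 := ringChar.eq K 2
    obtain ⟨x, hx⟩ := FiniteField.isSquare_of_char_two hp b
    exact ⟨x, 0, by rw [hx]; ring⟩
  · have h4 : (4 : K) ≠ 0 := by
      rw [show (4 : K) = 2 * 2 by norm_num]; exact mul_ne_zero h2 h2
    have hd : c - 1 / 4 ≠ 0 := fun h => hc (by rw [sub_eq_zero.1 h]; field_simp; ring)
    open Polynomial in
    obtain ⟨u, v, huv⟩ := FiniteField.exists_root_sum_quadratic (f := (X ^ 2 : K[X]))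
      (g := C (c - 1 / 4) * X ^ 2 - C b) (degree_X_pow 2)
      (by
          have hlt : degree (C b : K[X]) < degree (C (c - 1 / 4) * X ^ 2) := by
            rw [degree_C_mul_X_pow 2 hd]; exact lt_of_le_of_lt degree_C_le (by norm_num)
          rw [degree_sub_eq_left_of_degree_lt hlt, degree_C_mul_X_pow 2 hd]; rfl)
      (by rcases Nat.even_or_odd (Fintype.card K) with h | h
          · exact absurd ((ringChar.spec K 2).2 (by
              rw [(FiniteField.even_card_iff_char_two).2 (Nat.even_iff.1 h)])) (by exact_mod_cast h2)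
          · exact Nat.odd_iff.1 h)
    simp only [Polynomial.eval_sub, Polynomial.eval_mul, Polynomial.eval_pow, Polynomial.eval_C,
      Polynomial.eval_X] at huv
    refine ⟨u - v / 2, v, ?_⟩
    field_simp at huv ⊢
    linear_combination huv

variable {k : Type*} [Field k] [Finite k]

/-- The norm form represents every unit of a finite commutative `k`-algebra. -/
theorem form_surj {B : Type*} [CommRing B] [Algebra k B] [Finite B] (c : k) (hc : 1 - 4 * c ≠ 0) (b : Bˣ) :
    ∃ x y : B, x * x + x * y + algebraMap k B c * (y * y) = b := by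
  set γ := algebraMap k B c
  set N := nilradical B
  have : Finite (B ⧸ N) := Finite.of_surjective _ Ideal.Quotient.mk_surjective
  have : IsReduced (B ⧸ N) := Ideal.isRadical_iff_quotient_reduced N |>.1 (Ideal.radical_isRadical _)
  have base : ∀ z : B ⧸ N, ∃ x y : B ⧸ N, x * x + x * y + Ideal.Quotient.mk N γ * (y * y) = z := by
    intro z
    let Φ := IsArtinianRing.equivPi (B ⧸ N)
    have hcomp : ∀ I : MaximalSpectrum (B ⧸ N), ∃ x y, x * x + x * y + Φ (Ideal.Quotient.mk N γ) I * (y * y) = Φ z I := by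
      intro I
      have := I.isMaximal
      letI := Ideal.Quotient.field I.asIdeal
      let ψ : k →+* (B ⧸ N) ⧸ I.asIdeal :=
        (Pi.evalRingHom _ I).comp (Φ.toRingEquiv.toRingHom.comp ((Ideal.Quotient.mk N).comp (algebraMap k B)))
      refine form_surj_field (K := (B ⧸ N) ⧸ I.asIdeal) _ (fun h => hc (ψ.injective ?_)) _
      rw [map_zero, map_sub, map_one, map_mul, map_ofNat]
      exact h
    choose x y hxy using hcomp
    refine ⟨Φ.symm x, Φ.symm y, Φ.injective (funext fun I => ?_)⟩
    simpa using hxy I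
  obtain ⟨t, ht⟩ := IsArtinianRing.isNilpotent_nilradical (R := B)
  suffices H : ∀ j : ℕ, ∃ x y : B, (b : B) - (x * x + x * y + γ * (y * y)) ∈ N ^ (j + 1) by
    obtain ⟨x, y, h⟩ := H t
    refine ⟨x, y, (sub_eq_zero.1 ?_).symm⟩
    rw [← Ideal.mem_bot, ← Ideal.zero_eq_bot, ← ht]
    exact Ideal.pow_le_pow_right (Nat.le_succ t) h
  intro j
  induction j with
  | zero =>
    obtain ⟨x, y, h⟩ := base (Ideal.Quotient.mk N (b : B))
    obtain ⟨x, rfl⟩ := Ideal.Quotient.mk_surjective x
    obtain ⟨y, rfl⟩ := Ideal.Quotient.mk_surjective y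
    refine ⟨x, y, ?_⟩
    rw [pow_one, ← Ideal.Quotient.eq_zero_iff_mem, map_sub, sub_eq_zero]
    simpa using h.symm
  | succ j ih =>
    obtain ⟨x, y, h⟩ := ih
    set M := x * x + x * y + γ * (y * y) with hM
    have hMu : IsUnit M := by
      have hnil : IsNilpotent (M - (b : B)) :=
        mem_nilradical.1 (by rw [← neg_sub]; exact N.neg_mem (Ideal.pow_le_self (by omega) h))
      simpa using IsNilpotent.isUnit_add_left_of_commute hnil b.isUnit (Commute.all _ _)
    obtain ⟨M', hM'⟩ := hMu.exists_right_inv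
    set n := ((b : B) - M) * M'
    have hn : n ∈ N ^ (j + 1) := Ideal.mul_mem_right _ _ h
    have hn2 : n * n ∈ N ^ (j + 2) :=
      Ideal.pow_le_pow_right (by omega) (pow_add N (j + 1) (j + 1) ▸ Ideal.mul_mem_mul hn hn)
    refine ⟨x - γ * (y * n), x * n + y + y * n, ?_⟩
    convert Ideal.mul_mem_left (N ^ (j + 2)) (-(γ * M)) hn2 using 1
    simp only [n, hM]
    linear_combination (-((b : B) - M)) * hM'

variable {F : Type*} [Field F] [Finite F]

/-- Bound for norm-one units under an involution moving the scalars. -/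
theorem herm_bound {A : Type*} [CommRing A] [Finite A] [Algebra F A] (σ : F ≃+* F) (hσ : σ ≠ 1)
    (hσ2 : ∀ a, σ (σ a) = a) (τ : A ≃+* A) (hτ : ∀ a, τ (τ a) = a)
    (hτF : ∀ a, τ (algebraMap F A a) = algebraMap F A (σ a)) {r : ℕ} (hr : Nat.card F = r ^ 2) {d : ℕ}
    (hd : finrank F A ≤ d) :
    ∃ U : Subgroup Aˣ, (∀ u : Aˣ, u ∈ U ↔ τ u * u = 1) ∧ Nat.card U ≤ (r + 1) ^ d := by
  classical
  let U : Subgroup Aˣ :=
    { carrier := {u | τ u * u = 1}
      one_mem' := by simp
      mul_mem' := fun {a b} (ha : τ a * a = 1) (hb : τ b * b = 1) => by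
        show τ ((a * b : Aˣ) : A) * (a * b : Aˣ) = 1
        rw [Units.val_mul, map_mul, mul_mul_mul_comm, ha, hb, one_mul]
      inv_mem' := fun {a} (ha : τ a * a = 1) => by
        show τ ((a⁻¹ : Aˣ) : A) * (a⁻¹ : Aˣ) = 1
        have h1 : τ ((a⁻¹ : Aˣ) : A) * τ a = 1 := by rw [← map_mul, Units.inv_mul, map_one]
        calc τ ((a⁻¹ : Aˣ) : A) * (a⁻¹ : Aˣ) = τ ((a⁻¹ : Aˣ) : A) * (τ a * a) * (a⁻¹ : Aˣ) := by
              rw [ha, mul_one]
          _ = 1 := by rw [← mul_assoc (τ _), h1, one_mul, Units.mul_inv] }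
  refine ⟨U, fun u => Iff.rfl, ?_⟩
  let k : Subfield F := σ.toRingHom.eqLocusField (RingHom.id F)
  have hk : ∀ a, a ∈ k ↔ σ a = a := fun a => Iff.rfl
  have hex : ∃ ω : F, σ ω ≠ ω ∧ ω + σ ω = 1 := by
    obtain ⟨a, ha⟩ : ∃ a, σ a ≠ a := by
      by_contra h
      push Not at h
      exact hσ (RingEquiv.ext h)
    obtain ⟨a, ha, ht⟩ : ∃ a, σ a ≠ a ∧ a + σ a ≠ 0 := by
      by_cases ht : a + σ a = 0
      · refine ⟨a + 1, by simpa using ha, fun h => ?_⟩
        rw [map_add, map_one] at h
        exact ha (by linear_combination (1 + 0 : F) * ht - a * (by linear_combination h - ht : (1 + 1 : F) = 0))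
      · exact ⟨a, ha, ht⟩
    have hσt : σ (a + σ a) = a + σ a := by rw [map_add, hσ2, add_comm]
    refine ⟨a / (a + σ a), fun h => ?_, ?_⟩
    · rw [map_div₀, hσt] at h
      exact ha ((div_left_inj' ht).1 h)
    · rw [map_div₀, hσt, ← add_div, div_self ht]
  obtain ⟨ω, hω, hω1⟩ := hex
  have hωd : ω - σ ω ≠ 0 := sub_ne_zero.2 (Ne.symm hω)
  let c : k := ⟨ω * σ ω, by rw [hk, map_mul, hσ2, mul_comm]⟩
  have hc : 1 - 4 * c ≠ 0 := fun h => by
    have h' : (1 : F) - 4 * (ω * σ ω) = 0 := congrArg Subtype.val h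
    exact hωd (mul_self_eq_zero.1 (by linear_combination h' + (ω + σ ω + 1) * hω1))
  let B : Subalgebra k A :=
    { carrier := {a | τ a = a}
      mul_mem' := fun {a b} (ha : τ a = a) (hb : τ b = b) => by
        show τ (a * b) = a * b; rw [map_mul, ha, hb]
      add_mem' := fun {a b} (ha : τ a = a) (hb : τ b = b) => by
        show τ (a + b) = a + b; rw [map_add, ha, hb]
      algebraMap_mem' := fun z => by
        show τ (algebraMap F A z) = algebraMap F A z
        rw [hτF, show σ (z : F) = z from z.2] }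
  let y : A := algebraMap F A ω
  let δ : A := algebraMap F A (ω - σ ω)⁻¹
  have hy : τ y = algebraMap F A (σ ω) := hτF _
  have hδ : δ * (y - τ y) = 1 := by
    rw [hy, ← map_sub, ← map_mul, inv_mul_cancel₀ hωd, map_one]
  have hτδ : τ δ = -δ := by
    rw [hτF, ← map_neg, map_inv₀, map_sub, hσ2, ← neg_sub, inv_neg]
  have hsplit : ∀ a : A, ∃ b c : B, a = (b : A) + y * (c : A) := fun a => by
    have hb2 : τ (δ * (a - τ a)) = δ * (a - τ a) := by rw [map_mul, map_sub, hτ, hτδ]; ring
    refine ⟨⟨a - y * (δ * (a - τ a)), ?_⟩, ⟨_, hb2⟩, by ring⟩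
    show τ (a - y * (δ * (a - τ a))) = _
    rw [map_sub, map_mul, hb2]
    linear_combination (a - τ a) * hδ
  have huniq : ∀ b c : B, (b : A) + y * (c : A) = 0 → b = 0 ∧ c = 0 := fun b c h => by
    have h' := congrArg τ h
    rw [map_zero, map_add, map_mul, show τ (b : A) = b from b.2, show τ (c : A) = c from c.2] at h'
    have hc0 : (c : A) = 0 := by linear_combination δ * h - δ * h' - (c : A) * hδ
    exact ⟨Subtype.ext (by simpa [hc0] using h), Subtype.ext hc0⟩
  have hBA : Nat.card A = Nat.card B ^ 2 := by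
    rw [sq, ← Nat.card_prod]
    refine (Nat.card_congr (Equiv.ofBijective (fun p : B × B => (p.1 : A) + y * (p.2 : A)) ⟨?_, ?_⟩)).symm
    · rintro ⟨b, c⟩ ⟨b', c'⟩ h
      obtain ⟨h1, h2⟩ := huniq (b - b') (c - c') (by push_cast; linear_combination h)
      exact Prod.ext (sub_eq_zero.1 h1) (sub_eq_zero.1 h2)
    · intro a
      obtain ⟨b, c, h⟩ := hsplit a
      exact ⟨(b, c), h.symm⟩
  have hq : 1 < Nat.card F := Finite.one_lt_card
  have hcardk : Nat.card k = r := by
    have hbij : Function.Bijective (fun p : k × k => (p.1 : F) + ω * p.2) := by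
      constructor
      · rintro ⟨b, c⟩ ⟨b', c'⟩ h
        have e := congrArg σ (h : (b : F) + ω * c = b' + ω * c')
        rw [map_add, map_mul, map_add, map_mul, show σ (b : F) = b from b.2, show σ (c : F) = c from c.2,
          show σ (b' : F) = b' from b'.2, show σ (c' : F) = c' from c'.2] at e
        have hc' : (c : F) = c' := by
          have : (ω - σ ω) * ((c : F) - c') = 0 := by linear_combination (h : (b : F) + ω * c = b' + ω * c') - e
          exact sub_eq_zero.1 ((mul_eq_zero.1 this).resolve_left hωd)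
        have hb' : (b : F) = b' := by
          linear_combination (h : (b : F) + ω * c = b' + ω * c') - ω * hc'
        exact Prod.ext (Subtype.ext hb') (Subtype.ext hc')
      · intro a
        have hb2 : σ ((a - σ a) / (ω - σ ω)) = (a - σ a) / (ω - σ ω) := by
          rw [map_div₀, map_sub, map_sub, hσ2, hσ2, ← neg_sub a, ← neg_sub ω, neg_div_neg_eq]
        refine ⟨(⟨a - ω * ((a - σ a) / (ω - σ ω)), ?_⟩, ⟨_, hb2⟩), by simp⟩
        show σ (a - ω * ((a - σ a) / (ω - σ ω))) = _
        rw [map_sub, map_mul, hb2]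
        show σ a - σ ω * _ = a - ω * _
        linear_combination mul_div_cancel₀ (a - σ a) hωd
    have h2 : Nat.card k ^ 2 = r ^ 2 := by
      rw [← hr, ← Nat.card_congr (Equiv.ofBijective _ hbij), Nat.card_prod, sq]
    exact Nat.pow_left_injective (by omega) h2
  have : Module.Finite k A := Module.Finite.of_finite
  have hcA : Nat.card A = r ^ finrank k A := by rw [Module.natCard_eq_pow_finrank (K := k), hcardk]
  have hcB : Nat.card B = r ^ finrank k B := by rw [Module.natCard_eq_pow_finrank (K := k), hcardk]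
  have hcAF : Nat.card A = r ^ (2 * finrank F A) := by
    rw [Module.natCard_eq_pow_finrank (K := F), hr, ← pow_mul]
  have hr2 : 2 ≤ r := by nlinarith
  have e1 : finrank k A = 2 * finrank F A := Nat.pow_right_injective hr2 (hcA.symm.trans hcAF)
  have e2 : finrank k B = finrank F A := by
    have e3 : r ^ (2 * finrank k B) = r ^ (2 * finrank F A) := by
      rw [← hcAF, hBA, hcB, ← pow_mul, mul_comm]
    have := Nat.pow_right_injective hr2 e3
    omega
  have hbound := units_bound (k := k) (Nat.card B) B A B.val y le_rfl Subtype.val_injective hsplit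
  rw [hcardk, e1, e2, show 2 * finrank F A - finrank F A = finrank F A by omega] at hbound
  let Nm : Aˣ →* Aˣ :=
    { toFun := fun u => u * Units.map τ.toRingHom.toMonoidHom u
      map_one' := by simp
      map_mul' := fun u v => by rw [map_mul, mul_mul_mul_comm] }
  have hker : Nm.ker = U := by
    ext u
    rw [MonoidHom.mem_ker, Units.ext_iff]
    show (u : A) * τ u = 1 ↔ τ u * u = 1
    rw [mul_comm]
  have hsurj : ∀ b : Bˣ, Units.map B.val.toRingHom.toMonoidHom b ∈ Nm.range := fun b => by
    obtain ⟨x, z, hxz⟩ := form_surj c hc b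
    have hγ : algebraMap k A c = y * τ y := by
      rw [hy, ← map_mul]; rfl
    have hsum : y + τ y = 1 := by rw [hy, ← map_add, hω1, map_one]
    have h1 : (b : B).1 = ((x : A) + y * z) * τ ((x : A) + y * z) := by
      rw [map_add, map_mul, show τ (x : A) = x from x.2, show τ (z : A) = z from z.2, ← hxz]
      push_cast
      rw [hγ]
      linear_combination -((x : A) * z) * hsum
    have hu : IsUnit (((x : A) + y * z) * τ ((x : A) + y * z)) :=
      h1 ▸ (Units.map B.val.toRingHom.toMonoidHom b).isUnit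
    exact ⟨(isUnit_of_mul_isUnit_left hu).unit, Units.ext h1.symm⟩
  have hle : Nat.card Bˣ ≤ Nat.card Nm.range :=
    Nat.card_le_card_of_injective (fun b => ⟨_, hsurj b⟩) fun b b' h =>
      Units.ext (Subtype.ext (congrArg (fun w => ((w.1 : Aˣ) : A)) h))
  have hmul : Nat.card U * Nat.card Nm.range = Nat.card Aˣ := by
    rw [← hker, ← Subgroup.index_ker, Subgroup.card_mul_index]
  refine le_trans ?_ (Nat.pow_le_pow_right (Nat.succ_pos r) hd)
  refine Nat.le_of_mul_le_mul_right ?_ (Nat.card_pos (α := Bˣ))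
  exact le_trans (le_trans (Nat.mul_le_mul_left _ hle) hmul.le) hbound

/-- Bound for a norm-one unit generating an algebra with involution fixing the scalars. -/
theorem orth_bound {A : Type*} [CommRing A] [Finite A] [Algebra F A] (τ : A ≃ₐ[F] A) (hτ : ∀ a, τ (τ a) = a)
    (S : Aˣ) (hS : τ (S : A) * S = 1) (hgen : Algebra.adjoin F {(S : A)} = ⊤) {d : ℕ} (hd : finrank F A ≤ d) :
    ∃ m, 0 < m ∧ m ≤ 2 * (Nat.card F + 1) ^ (d / 2) ∧ S ^ m = 1 := by
  classical
  let B : Subalgebra F A :=
    { carrier := {a | τ a = a}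
      mul_mem' := fun {a b} (ha : τ a = a) (hb : τ b = b) => by
        show τ (a * b) = a * b; rw [map_mul, ha, hb]
      add_mem' := fun {a b} (ha : τ a = a) (hb : τ b = b) => by
        show τ (a + b) = a + b; rw [map_add, ha, hb]
      algebraMap_mem' := fun z => τ.commutes z }
  have hw : τ ((S : A) + τ S) = (S : A) + τ S := by rw [map_add, hτ, add_comm]
  have hsplit : ∀ a : A, ∃ b c : B, a = (b : A) + (S : A) * (c : A) := by
    intro a
    have ha : a ∈ Algebra.adjoin F {(S : A)} := hgen ▸ Algebra.mem_top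
    induction ha using Algebra.adjoin_induction with
    | mem x hx => obtain rfl : x = S := hx; exact ⟨0, 1, by simp⟩
    | algebraMap z => exact ⟨⟨_, τ.commutes z⟩, 0, by simp⟩
    | add x x' _ _ hx hx' =>
      obtain ⟨b, c, rfl⟩ := hx
      obtain ⟨b', c', rfl⟩ := hx'
      exact ⟨b + b', c + c', by push_cast; ring⟩
    | mul x x' _ _ hx hx' =>
      obtain ⟨b, c, rfl⟩ := hx
      obtain ⟨b', c', rfl⟩ := hx'
      refine ⟨b * b' - c * c', b * c' + c * b' + ⟨_, hw⟩ * (c * c'), ?_⟩
      push_cast
      linear_combination -((c : A) * c') * hS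
  have : Module.Finite F A := Module.Finite.of_finite
  have h2 : finrank F A ≤ 2 * finrank F B := by
    let g : B × B →ₗ[F] A := B.val.toLinearMap.coprod ((LinearMap.mul F A (S : A)) ∘ₗ B.val.toLinearMap)
    have hg : LinearMap.range g = ⊤ := eq_top_iff.2 fun a _ => by
      obtain ⟨b, c, h⟩ := hsplit a; exact ⟨(b, c), h.symm⟩
    have h := LinearMap.finrank_range_le g
    rw [hg, finrank_top, Module.finrank_prod] at h
    omega
  have hbound := units_bound (k := F) (Nat.card B) B A B.val (S : A) le_rfl Subtype.val_injective hsplit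
  obtain ⟨m, hm, hle, hmem⟩ := exists_pow_mem_of_comm (Units.map B.val.toRingHom.toMonoidHom).range S
  refine ⟨2 * m, by omega, Nat.mul_le_mul_left _ ?_, ?_⟩
  · have hcard : Nat.card (Units.map B.val.toRingHom.toMonoidHom).range = Nat.card Bˣ :=
      (Nat.card_congr (MonoidHom.ofInjective (Units.map_injective
        (f := B.val.toRingHom.toMonoidHom) Subtype.val_injective)).toEquiv).symm
    rw [hcard] at hle
    refine (Nat.le_of_mul_le_mul_right (hle.trans hbound) Nat.card_pos).trans ?_
    exact Nat.pow_le_pow_right (Nat.succ_pos _) (by omega)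
  · obtain ⟨b, hb⟩ := hmem
    have hbA : ((S : A)) ^ m = (b : B).1 := (congrArg Units.val hb).symm
    refine Units.ext ?_
    rw [Units.val_pow_eq_pow_val, Units.val_one, two_mul, pow_add]
    nth_rewrite 1 [show (S : A) ^ m = τ ((S : A) ^ m) by rw [hbA]; exact (b : B).2.symm]
    rw [map_pow, ← mul_pow, hS, one_pow]

end Cfsg.Lib.Known.MaxOrder
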