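import Mathlib

/-!
Small cases: powers of an element with a palindromic relation become scalar quickly.
-/

set_option autoImplicit false

namespace Cfsg.Lib.Known.MaxOrder

open Polynomial

/-- Operations on a computable copy of a small field. -/
structure Ops (α : Type) where
  zero : α
  one : α
  add : α → α → α
  mul : α → α → α
  neg : α → α

variable {α : Type}

/-- A realisation of the operations in a ring. -/
structure Ops.Real (o : Ops α) (F : Type*) [CommRing F] where
  φ : α → F
  inj : Function.Injective φ
  surj : Function.Surjective φ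
  map_zero : φ o.zero = 0
  map_one : φ o.one = 1
  map_add : ∀ a b, φ (o.add a b) = φ a + φ b
  map_mul : ∀ a b, φ (o.mul a b) = φ a * φ b
  map_neg : ∀ a, φ (o.neg a) = - φ a

/-- Multiply by the variable modulo a monic relation. -/
def step (o : Ops α) (c v : List α) : List α :=
  List.zipWith (fun w cc => o.add w (o.mul (v.getLastD o.zero) (o.neg cc))) (o.zero :: v.dropLast) c

/-- Whether some power below the fuel becomes scalar. -/
def search [DecidableEq α] (o : Ops α) (c : List α) : ℕ → List α → Bool
  | 0, _ => false
  | fuel + 1, v => if (step o c v).tail.all (fun x => decide (x = o.zero)) then true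
      else search o c fuel (step o c v)

/-- The vector `1`. -/
def unit (o : Ops α) : ℕ → List α
  | 0 => []
  | n + 1 => o.one :: List.replicate n o.zero

section

variable {F : Type*} [CommRing F] {R : Type*} [CommRing R] [Algebra F R]

/-- Evaluate a coefficient list. -/
def ev (φ : α → F) (S : R) : List α → R
  | [] => 0
  | a :: l => algebraMap F R (φ a) + S * ev φ S l

theorem ev_append (φ : α → F) (S : R) (t : α) : ∀ l : List α,
    ev φ S (l ++ [t]) = ev φ S l + algebraMap F R (φ t) * S ^ l.length
  | [] => by simp [ev]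
  | a :: l => by
    rw [List.cons_append, ev, ev, ev_append φ S t l, List.length_cons, pow_succ]
    ring

variable {o : Ops α}

theorem ev_zip (h : o.Real F) (S : R) (t : α) : ∀ a b : List α, a.length = b.length →
    ev h.φ S (List.zipWith (fun w cc => o.add w (o.mul t (o.neg cc))) a b) =
      ev h.φ S a - algebraMap F R (h.φ t) * ev h.φ S b
  | [], [], _ => by simp [ev]
  | a :: as, b :: bs, e => by
    simp only [List.zipWith_cons_cons, ev]
    rw [ev_zip h S t as bs (by simpa using e), h.map_add, h.map_mul, h.map_neg]
    simp only [map_add, map_mul, map_neg]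
    ring

theorem ev_replicate (h : o.Real F) (S : R) : ∀ n : ℕ, ev h.φ S (List.replicate n o.zero) = 0
  | 0 => rfl
  | n + 1 => by rw [List.replicate_succ, ev, ev_replicate h S n, h.map_zero]; simp

theorem ev_step (h : o.Real F) (S : R) {c : List α} (hc : S ^ c.length + ev h.φ S c = 0) {v : List α}
    (hv : v.length = c.length) : ev h.φ S (step o c v) = S * ev h.φ S v ∧ (step o c v).length = c.length := by
  rcases List.eq_nil_or_concat v with rfl | ⟨l, t, rfl⟩
  · obtain rfl : c = [] := List.length_eq_zero_iff.1 hv.symm
    simp [step, ev]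
  · simp only [List.concat_eq_append, List.length_append, List.length_singleton] at hv ⊢
    have hl : (o.zero :: l).length = c.length := by simpa using hv
    constructor
    · rw [step, List.dropLast_concat, List.getLastD_concat, ev_zip h S t _ _ hl, ev, ev_append, h.map_zero,
        map_zero, zero_add]
      rw [← hv, pow_succ] at hc
      linear_combination -(algebraMap F R (h.φ t)) * hc
    · simp [step, List.length_zipWith]
      omega

theorem ev_eq_of_tail (h : o.Real F) (S : R) [DecidableEq α] : ∀ v : List α,
    v.tail.all (fun x => decide (x = o.zero)) = true → ∃ a : F, ev h.φ S v = algebraMap F R a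
  | [], _ => ⟨0, by simp [ev]⟩
  | a :: l, hl => by
    refine ⟨h.φ a, ?_⟩
    have : l = List.replicate l.length o.zero := by
      refine List.eq_replicate_iff.2 ⟨rfl, fun x hx => ?_⟩
      simpa using (List.all_eq_true.1 hl x hx)
    rw [ev, this, ev_replicate, mul_zero, add_zero]

theorem search_spec (h : o.Real F) (S : R) [DecidableEq α] {c : List α} (hc : S ^ c.length + ev h.φ S c = 0) :
    ∀ (fuel j : ℕ) (v : List α), v.length = c.length → ev h.φ S v = S ^ j → search o c fuel v = true →
      ∃ k, 0 < k ∧ k ≤ j + fuel ∧ ∃ a : F, S ^ k = algebraMap F R a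
  | 0, j, v, _, _, hs => by simp [search] at hs
  | fuel + 1, j, v, hv, he, hs => by
    obtain ⟨h1, h2⟩ := ev_step h S hc hv
    have h3 : ev h.φ S (step o c v) = S ^ (j + 1) := by rw [h1, he, pow_succ']
    rw [search] at hs
    split at hs
    · rename_i hb
      obtain ⟨a, ha⟩ := ev_eq_of_tail h S _ hb
      exact ⟨j + 1, by omega, by omega, a, by rw [← h3, ha]⟩
    · obtain ⟨k, hk0, hk, hk'⟩ := search_spec h S hc fuel (j + 1) _ h2 h3 hs
      exact ⟨k, hk0, by omega, hk'⟩

end

/-- The palindromic completion of the half list `h` to length `d`. -/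
def pal (o : Ops α) (d : ℕ) (h : List α) : List α :=
  (List.range d).map fun i => if i ≤ d / 2 then h.getD i o.zero else o.mul (h.getD 0 o.zero) (h.getD (d - i) o.zero)

/-- All lists of a given length. -/
def allLists (el : List α) : ℕ → List (List α)
  | 0 => [[]]
  | n + 1 => el.flatMap fun a => (allLists el n).map (List.cons a)

theorem mem_allLists {el : List α} (hel : ∀ a, a ∈ el) : ∀ l : List α, l ∈ allLists el l.length
  | [] => by simp [allLists]
  | a :: l => by
    simp only [allLists, List.length_cons, List.mem_flatMap, List.mem_map]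
    exact ⟨a, hel a, l, mem_allLists hel l, rfl⟩

/-- The certificate for degree `d` and bound `B`. -/
def cert [DecidableEq α] (o : Ops α) (el : List α) (d B : ℕ) : Bool :=
  (allLists el (d / 2 + 1)).all fun h =>
    let c0 := h.getD 0 o.zero
    !decide (o.mul c0 c0 = o.one) ||
      !(decide (d % 2 = 1) || decide (o.mul c0 (h.getD (d / 2) o.zero) = h.getD (d / 2) o.zero)) ||
      search o (pal o d h) B (unit o d)

theorem cert_spec [DecidableEq α] {o : Ops α} {el : List α} (hel : ∀ a, a ∈ el) {d B : ℕ} (hd : 0 < d)
    (hB : cert o el d B = true) {F : Type*} [CommRing F] (hr : o.Real F) {R : Type*} [CommRing R] [Algebra F R]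
    (S : R) (χ : F[X]) (hdeg : χ.natDegree = d) (hm : χ.Monic) (h0 : aeval S χ = 0)
    (hpal : ∀ i ≤ d, χ.coeff i = χ.coeff 0 * χ.coeff (d - i)) :
    ∃ k, 0 < k ∧ k ≤ B ∧ ∃ a : F, S ^ k = algebraMap F R a := by
  obtain ⟨u, hu⟩ := hr.surj.hasRightInverse
  have hlead : χ.coeff d = 1 := hdeg ▸ hm.coeff_natDegree
  set h : List α := (List.range (d / 2 + 1)).map fun i => u (χ.coeff i)
  have hget : ∀ i ≤ d / 2, hr.φ (h.getD i o.zero) = χ.coeff i := fun i hi => by
    have hi' : i < d / 2 + 1 := by omega
    simp [h, List.getD_eq_getElem?_getD, hi', hu _]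
  have hmem := List.all_eq_true.1 hB h (by
    have := mem_allLists hel h
    rwa [show h.length = d / 2 + 1 by simp [h]] at this)
  have h00 : χ.coeff 0 * χ.coeff 0 = 1 := by
    have := hpal d le_rfl
    rw [hlead, Nat.sub_self] at this
    exact this.symm
  have c1 : o.mul (h.getD 0 o.zero) (h.getD 0 o.zero) = o.one :=
    hr.inj (by rw [hr.map_mul, hget 0 (Nat.zero_le _), hr.map_one, h00])
  have c2 : d % 2 = 1 ∨ o.mul (h.getD 0 o.zero) (h.getD (d / 2) o.zero) = h.getD (d / 2) o.zero := by
    by_cases h2 : d % 2 = 1
    · exact Or.inl h2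
    · refine Or.inr (hr.inj ?_)
      rw [hr.map_mul, hget 0 (Nat.zero_le _), hget _ le_rfl]
      have := hpal (d / 2) (by omega)
      rw [show d - d / 2 = d / 2 by omega] at this
      exact this.symm
  have hs : search o (pal o d h) B (unit o d) = true := by
    simp [List.getD_eq_getElem?_getD] at hmem c1 c2
    rcases hmem with (h1 | ⟨h1, h2⟩) | h1
    · exact absurd c1 h1
    · rcases c2 with c2 | c2
      · omega
      · exact absurd c2 h2
    · exact h1
  have hc : ∀ (g : ℕ → α) (n : ℕ), ev hr.φ S ((List.range n).map g) =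
      ∑ i ∈ Finset.range n, algebraMap F R (hr.φ (g i)) * S ^ i := fun g n => by
    induction n with
    | zero => simp [ev]
    | succ n ih =>
      rw [List.range_succ, List.map_append, List.map_singleton, ev_append, ih, Finset.sum_range_succ]
      simp
  have hlen : (pal o d h).length = d := by simp [pal]
  have hu1 : ∀ n, 0 < n → ev hr.φ S (unit o n) = S ^ 0 ∧ (unit o n).length = n := by
    rintro (_ | n) hn
    · omega
    · simp [unit, ev, ev_replicate, hr.map_one]
  obtain ⟨k, h1, h2, h3⟩ := search_spec hr S (c := pal o d h) (by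
    rw [hlen, pal, hc]
    have hsum := h0
    rw [aeval_eq_sum_range, hdeg, Finset.sum_range_succ, hlead, one_smul] at hsum
    rw [add_comm, ← hsum]
    refine congrArg (· + _) (Finset.sum_congr rfl fun i hi => ?_)
    rw [Algebra.smul_def]
    have hid := Finset.mem_range.1 hi
    split_ifs with hle
    · rw [hget i hle]
    · rw [hr.map_mul, hget 0 (Nat.zero_le _), hget _ (by omega), ← hpal i hid.le]) B 0 (unit o d)
    (by rw [(hu1 d hd).2, hlen]) (hu1 d hd).1 hs
  exact ⟨k, h1, by omega, h3⟩

/-- Modular arithmetic. -/
def modOps (p : ℕ) : Ops (ZMod p) := ⟨0, 1, (· + ·), (· * ·), (- ·)⟩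

/-- The field with four elements on pairs `a + b ω`. -/
def fourOps : Ops (ZMod 2 × ZMod 2) :=
  ⟨(0, 0), (1, 0), (· + ·), fun a b => (a.1 * b.1 + a.2 * b.2, a.1 * b.2 + a.2 * b.1 + a.2 * b.2), id⟩

theorem cert_two_four : cert (modOps 2) [0, 1] 4 7 = true := by decide +kernel
theorem cert_two_five : cert (modOps 2) [0, 1] 5 15 = true := by decide +kernel
theorem cert_two_six : cert (modOps 2) [0, 1] 6 31 = true := by decide +kernel
theorem cert_two_eight : cert (modOps 2) [0, 1] 8 127 = true := by decide +kernel
theorem cert_three_three : cert (modOps 3) [0, 1, 2] 3 6 = true := by decide +kernel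
theorem cert_three_four : cert (modOps 3) [0, 1, 2] 4 20 = true := by decide +kernel
theorem cert_four_four : cert fourOps [(0, 0), (1, 0), (0, 1), (1, 1)] 4 42 = true := by decide +kernel

theorem nonempty_real_mod {F : Type*} [Field F] [Fintype F] {p : ℕ} [Fact p.Prime] (h : Fintype.card F = p) :
    Nonempty ((modOps p).Real F) := by
  let e := ZMod.ringEquivOfPrime F Fact.out h
  exact ⟨⟨e, e.injective, e.surjective, map_zero e, map_one e, map_add e, map_mul e, map_neg e⟩⟩

theorem zmod_two_cases : ∀ z : ZMod 2, z = 0 ∨ z = 1 := by decide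

theorem nonempty_real_four {F : Type*} [Field F] [Fintype F] (h : Fintype.card F = 4) :
    Nonempty (fourOps.Real F) := by
  classical
  haveI : Fact (Nat.Prime 2) := ⟨Nat.prime_two⟩
  have hc : CharP F 2 := charP_of_card_eq_prime_pow (f := 2) (by rw [h]; norm_num)
  obtain ⟨w, hw⟩ : ∃ w : F, w ∉ ({0, 1} : Finset F) := by
    by_contra hne
    push Not at hne
    have := Finset.card_le_card (fun x (_ : x ∈ Finset.univ) => hne x)
    rw [Finset.card_univ, h] at this
    exact absurd (this.trans Finset.card_le_two) (by norm_num)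
  simp only [Finset.mem_insert, Finset.mem_singleton, not_or] at hw
  have hw4 : w ^ 4 = w := h ▸ FiniteField.pow_card w
  have hw2 : w * w = w + 1 := by
    have hz : (w * w + w + 1) * (w * (w - 1)) = 0 := by linear_combination hw4
    have h1 := (mul_eq_zero.1 hz).resolve_right (mul_ne_zero hw.1 (sub_ne_zero.2 hw.2))
    linear_combination h1 - (w + 1) * CharTwo.two_eq_zero (R := F)
  let ι := ZMod.castHom (dvd_refl 2) F
  let φ : ZMod 2 × ZMod 2 → F := fun a => ι a.1 + ι a.2 * w
  have hadd : ∀ a b, φ (a + b) = φ a + φ b := fun a b => by simp [φ]; ring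
  have hinj : Function.Injective φ := by
    intro a b hab
    have h0 : φ (a - b) = 0 := by
      have := hadd (a - b) b
      rw [sub_add_cancel, hab] at this
      linear_combination -this
    obtain ⟨x, y⟩ := a
    obtain ⟨x', y'⟩ := b
    have h01 := zmod_two_cases
    simp only [Prod.mk_sub_mk, φ] at h0
    refine Prod.ext ?_ ?_ <;> rcases h01 (x - x') with ha | ha <;> rcases h01 (y - y') with hb | hb <;>
      rw [ha, hb] at h0 <;> simp at h0 <;>
      first
        | exact sub_eq_zero.1 ha
        | exact sub_eq_zero.1 hb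
        | exact absurd h0 hw.1
        | (exfalso; exact hw.2 (by linear_combination h0 - CharTwo.two_eq_zero (R := F)))
  refine ⟨⟨φ, hinj, ?_, by simp [φ, fourOps], by simp [φ, fourOps], hadd, fun a b => ?_, fun a => ?_⟩⟩
  · exact ((Fintype.bijective_iff_injective_and_card φ).2 ⟨hinj, by simp [h]⟩).2
  · simp only [φ, fourOps, map_add, map_mul]
    linear_combination (-(ι a.2 * ι b.2)) * hw2
  · show φ a = -φ a
    exact (CharTwo.neg_eq _).symm

end Cfsg.Lib.Known.MaxOrder
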