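import Cfsg.Agent.Known.AutPSLn.MaxOrder.Linear
import Cfsg.Agent.Known.AutPSLn.MaxOrder.Bounds
import Cfsg.Agent.Known.AutPSLn.MaxOrder.Certs
import Cfsg.Agent.Known.SLUnit

/-!
Orders in the graph cosets of `PSL_n` and the largest element order of `Aut PSL_n`.
-/

set_option autoImplicit false
set_option linter.unusedSectionVars false

namespace Cfsg.Lib.Known.MaxOrder

open Matrix Polynomial
open Cfsg.Lib.Known.AutPSLn

variable {F : Type*} [Field F] [Fintype F] {n : ℕ}

local notation "GLn" => GL (Fin n) F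
local notation "Pn" => Matrix.ProjectiveSpecialLinearGroup (Fin n) F
local notation "Mn" => Matrix (Fin n) (Fin n) F

theorem map_map_invol (σ : F ≃+* F) (hσ2 : ∀ a, σ (σ a) = a) (X : Mn) : (X.map σ).map σ = X :=
  Matrix.ext fun i j => hσ2 _

/-- The adjoint map of a sesquilinear form. -/
def adj (g : GLn) (σ : F ≃+* F) (X : Mn) : Mn := (g : Mn) * (X.map σ)ᵀ * ((g⁻¹ : GLn) : Mn)

theorem adj_add (g : GLn) (σ : F ≃+* F) (X Y : Mn) : adj g σ (X + Y) = adj g σ X + adj g σ Y := by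
  simp [adj, Matrix.map_add, mul_add, add_mul]

theorem adj_mul (g : GLn) (σ : F ≃+* F) (X Y : Mn) : adj g σ (X * Y) = adj g σ Y * adj g σ X := by
  simp only [adj, Matrix.map_mul, transpose_mul, mul_assoc, Units.inv_mul_cancel_left]

theorem adj_algebraMap (g : GLn) (σ : F ≃+* F) (c : F) :
    adj g σ (algebraMap F Mn c) = algebraMap F Mn (σ c) := by
  rw [adj, Matrix.algebraMap_eq_diagonal, diagonal_map (map_zero σ), diagonal_transpose]
  show (g : Mn) * algebraMap F Mn (σ c) * _ = _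
  rw [← Algebra.commutes, mul_assoc, Units.mul_inv, mul_one]

/-- The square of a graph coset element. -/
noncomputable def sqElt (g : GLn) (σ : F ≃+* F) : GLn := g * glMap σ (glInvT g)

theorem coe_sqElt (g : GLn) (σ : F ≃+* F) :
    (sqElt g σ : Mn) = (g : Mn) * (((g⁻¹ : GLn) : Mn)ᵀ).map σ := rfl

theorem adj_sqElt_mul (g : GLn) (σ : F ≃+* F) (hσ2 : ∀ a, σ (σ a) = a) :
    adj g σ (sqElt g σ : Mn) * (sqElt g σ : Mn) = 1 := by
  rw [coe_sqElt, adj, Matrix.map_mul, map_map_invol σ hσ2, transpose_mul, transpose_transpose]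
  have e : ((g⁻¹ : GLn) : Mn).map σ * (g : Mn).map σ = 1 := by
    rw [← Matrix.map_mul, Units.inv_mul, Matrix.map_one _ (map_zero σ) (map_one σ)]
  simp only [mul_assoc, Units.inv_mul_cancel_left, Units.mul_inv_cancel_left]
  rw [transpose_map, ← transpose_mul, e, transpose_one]

theorem adj_adj_mul (g : GLn) (σ : F ≃+* F) (hσ2 : ∀ a, σ (σ a) = a) (X : Mn) :
    adj g σ (adj g σ X) * (sqElt g σ : Mn) = (sqElt g σ : Mn) * X := by
  rw [coe_sqElt]
  simp only [adj, Matrix.map_mul, transpose_mul, transpose_map, transpose_transpose, map_map_invol σ hσ2,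
    mul_assoc, Units.inv_mul_cancel_left]
  have e : ((g : Mn).map σ)ᵀ * (((g⁻¹ : GLn) : Mn).map σ)ᵀ = 1 := by
    rw [← transpose_mul, ← Matrix.map_mul, Units.inv_mul, Matrix.map_one _ (map_zero σ) (map_one σ),
      transpose_one]
  rw [e, mul_one]

/-- The algebra generated by the square. -/
abbrev alg (g : GLn) (σ : F ≃+* F) : Subalgebra F Mn := Algebra.adjoin F ({(sqElt g σ : Mn)} : Set Mn)

theorem adj_mem (g : GLn) (σ : F ≃+* F) (hσ2 : ∀ a, σ (σ a) = a) {X : Mn} (hX : X ∈ alg g σ) :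
    adj g σ X ∈ alg g σ := by
  induction hX using Algebra.adjoin_induction with
  | mem x hx =>
    obtain rfl : x = (sqElt g σ : Mn) := hx
    rw [← Units.inv_eq_of_mul_eq_one_left (adj_sqElt_mul g σ hσ2)]
    exact inv_mem_adjoin _
  | algebraMap c => rw [adj_algebraMap]; exact Subalgebra.algebraMap_mem _ _
  | add x y _ _ hx hy => rw [adj_add]; exact add_mem hx hy
  | mul x y _ _ hx hy => rw [adj_mul]; exact mul_mem hy hx

theorem adj_invol (g : GLn) (σ : F ≃+* F) (hσ2 : ∀ a, σ (σ a) = a) {X : Mn} (hX : X ∈ alg g σ) :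
    adj g σ (adj g σ X) = X := by
  refine (sqElt g σ).isUnit.mul_right_cancel ?_
  rw [adj_adj_mul g σ hσ2]
  exact congrArg Subtype.val
    (adjoin_comm (k := F) (sqElt g σ : Mn) ⟨_, Algebra.self_mem_adjoin_singleton F _⟩ ⟨X, hX⟩)

set_option maxHeartbeats 1000000 in
theorem finrank_alg_le (g : GLn) (σ : F ≃+* F) : Module.finrank F (alg g σ) ≤ n := by
  have hd : (sqElt g σ : Mn).charpoly.natDegree = n := by rw [charpoly_natDegree_eq_dim, Fintype.card_fin]
  have h : Nat.card (alg g σ) ≤ Nat.card F ^ n :=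
    card_adjoin_le (charpoly_monic (sqElt g σ : Mn)) (aeval_self_charpoly (sqElt g σ : Mn)) hd
  have h2 : Nat.card (alg g σ) = Nat.card F ^ Module.finrank F (alg g σ) :=
    Module.natCard_eq_pow_finrank (K := F) (V := alg g σ)
  rw [h2] at h
  exact (Nat.pow_le_pow_iff_right (Finite.one_lt_card (α := F))).1 h

theorem norm_one_scalars_card (σ : F ≃+* F) (hσ2 : ∀ a, σ (σ a) = a) {r : ℕ} (hr : 2 ≤ r)
    (hF : Nat.card F = r ^ 2) (hk : Nat.card (fixField σ) = r) :
    ∃ H : Subgroup Fˣ, (∀ c : Fˣ, c ∈ H ↔ σ (c : F) * c = 1) ∧ r + 1 ≤ Nat.card H := by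
  let Nm : Fˣ →* (fixField σ)ˣ :=
    MonoidHom.toHomUnits
      { toFun := fun c => ⟨σ (c : F) * c, by show σ (σ (c : F) * c) = σ (c : F) * c; rw [map_mul, hσ2, mul_comm]⟩
        map_one' := Subtype.ext (by simp)
        map_mul' := fun a b => Subtype.ext (by
          show σ ((a * b : Fˣ) : F) * (a * b : Fˣ) = σ (a : F) * a * (σ (b : F) * b)
          rw [Units.val_mul, map_mul, mul_mul_mul_comm]) }
  refine ⟨Nm.ker, fun c => ?_, ?_⟩
  · rw [MonoidHom.mem_ker, Units.ext_iff, Subtype.ext_iff]; rfl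
  · have h1 := Nm.ker.card_mul_index
    rw [Subgroup.index_ker, Nat.card_units, hF] at h1
    have h2 : Nat.card Nm.range ≤ r - 1 := by
      rw [← hk, ← Nat.card_units]
      exact Nat.card_le_card_of_injective _ Subtype.val_injective
    refine Nat.le_of_mul_le_mul_right ?_ (show 0 < r - 1 by omega)
    calc (r + 1) * (r - 1) = r ^ 2 - 1 := by rw [← Nat.sq_sub_sq, one_pow]
      _ ≤ _ := h1.symm.le.trans (Nat.mul_le_mul_left _ h2)

/-- The square of a graph coset element, linear part of order at most two, twisted case. -/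
theorem herm_case (hn : 3 ≤ n) (g : GLn) (σ : F ≃+* F) (hσ : σ ≠ 1) (hσ2 : σ ^ 2 = 1) :
    ∃ m, 0 < m ∧ 2 * m ≤ geo n (Fintype.card F) ∧ (conjP (sqElt g σ) : MulAut Pn) ^ m = 1 := by
  classical
  haveI : Nonempty (Fin n) := ⟨⟨0, by omega⟩⟩
  have h2 : ∀ a, σ (σ a) = a := fun a => by rw [← RingAut.mul_apply, ← pow_two, hσ2]; rfl
  have : Fact (Nat.Prime 2) := ⟨Nat.prime_two⟩
  have hord : orderOf σ = 2 := orderOf_eq_prime hσ2 hσ
  have hq : Nat.card F = Nat.card (fixField σ) ^ 2 := by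
    rw [← hord, card_fixField, Nat.card_eq_fintype_card]
  set r := Nat.card (fixField σ) with hrdef
  have hr : 2 ≤ r := Finite.one_lt_card
  let A := alg g σ
  letI : CommRing A := { (inferInstance : Ring A) with mul_comm := adjoin_comm _ }
  let τ : A ≃+* A :=
    { toFun := fun X => ⟨adj g σ X, adj_mem g σ h2 X.2⟩
      invFun := fun X => ⟨adj g σ X, adj_mem g σ h2 X.2⟩
      left_inv := fun X => Subtype.ext (adj_invol g σ h2 X.2)
      right_inv := fun X => Subtype.ext (adj_invol g σ h2 X.2)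
      map_mul' := fun X Y => by
        rw [mul_comm X Y]; exact Subtype.ext (adj_mul g σ (Y : Mn) X)
      map_add' := fun X Y => Subtype.ext (adj_add g σ (X : Mn) Y) }
  obtain ⟨U, hU, hUcard⟩ := herm_bound (A := A) σ hσ h2 τ (fun X => Subtype.ext (adj_invol g σ h2 X.2))
    (fun c => Subtype.ext (adj_algebraMap g σ c)) hq (d := n) (finrank_alg_le g σ)
  obtain ⟨H, hH, hHcard⟩ := norm_one_scalars_card σ h2 hr hq rfl
  let ι : H →* U :=
    ((Units.map (algebraMap F A).toMonoidHom).comp H.subtype).codRestrict U fun c => (hU _).2 (by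
      show τ (algebraMap F A ((c : Fˣ) : F)) * algebraMap F A ((c : Fˣ) : F) = 1
      rw [show τ (algebraMap F A ((c : Fˣ) : F)) = algebraMap F A (σ ((c : Fˣ) : F)) from
        Subtype.ext (adj_algebraMap g σ _), ← map_mul, (hH _).1 c.2, map_one])
  have hι : Function.Injective ι := fun a b h =>
    Subtype.ext (Units.map_injective (f := (algebraMap F A).toMonoidHom) (algebraMap F A).injective
      (congrArg Subtype.val h))
  let s : U := ⟨genUnit (sqElt g σ), (hU _).2 (Subtype.ext (adj_sqElt_mul g σ h2))⟩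
  obtain ⟨m, hm0, hle, hmem⟩ := exists_pow_mem_of_comm ι.range s
  refine ⟨m, hm0, ?_, ?_⟩
  · have hc : Nat.card ι.range = Nat.card H := (Nat.card_congr (MonoidHom.ofInjective hι).toEquiv).symm
    rw [hc] at hle
    have h3 : m * (r + 1) ≤ (r + 1) ^ (n - 1) * (r + 1) := by
      rw [← pow_succ, Nat.sub_add_cancel (by omega : 1 ≤ n)]
      exact (Nat.mul_le_mul_left m hHcard).trans (hle.trans hUcard)
    rw [← Nat.card_eq_fintype_card, hq]
    exact (Nat.mul_le_mul_left 2 (Nat.le_of_mul_le_mul_right h3 (Nat.succ_pos r))).trans (herm_le hr hn)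
  · obtain ⟨c, hc⟩ := hmem
    rw [← map_pow]
    refine conjP_eq_one_of_scalar (c := (((c : Fˣ)) : F)) ?_
    have h := congrArg (fun u : U => (((u : Aˣ) : A) : Mn)) hc
    rw [Units.val_pow_eq_pow_val]
    simp only [SubmonoidClass.coe_pow, Units.val_pow_eq_pow_val] at h
    exact h.symm

theorem cert_case {p d B : ℕ} {el : List (ZMod p)} [Fact p.Prime] (hel : ∀ a, a ∈ el)
    (hB : cert (modOps p) el d B = true) (hd : 0 < d) (hp : Fintype.card F = p) (hn : n = d) (S : GLn)
    (hpal : ∀ i ≤ n, (S : Mn).charpoly.coeff i = (S : Mn).charpoly.coeff 0 * (S : Mn).charpoly.coeff (n - i)) :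
    ∃ m, 0 < m ∧ m ≤ B ∧ (conjP S : MulAut Pn) ^ m = 1 := by
  obtain ⟨hr⟩ := nonempty_real_mod (F := F) hp
  let A := Algebra.adjoin F ({(S : Mn)} : Set Mn)
  letI : CommRing A := { (inferInstance : Ring A) with mul_comm := adjoin_comm _ }
  obtain ⟨m, hm0, hm, c, hc⟩ := cert_spec hel hd hB hr (⟨S, Algebra.self_mem_adjoin_singleton F _⟩ : A)
    (S : Mn).charpoly (by rw [charpoly_natDegree_eq_dim, Fintype.card_fin, hn]) (charpoly_monic _)
    (Subtype.ext ((aeval_algHom_apply A.val _ _).symm.trans (aeval_self_charpoly _))) (hn ▸ hpal)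
  refine ⟨m, hm0, hm, ?_⟩
  rw [← map_pow]
  refine conjP_eq_one_of_scalar (c := c) ?_
  rw [Units.val_pow_eq_pow_val]
  exact congrArg Subtype.val hc

theorem cert_case_four {d B : ℕ} {el : List (ZMod 2 × ZMod 2)} (hel : ∀ a, a ∈ el)
    (hB : cert fourOps el d B = true) (hd : 0 < d) (hp : Fintype.card F = 4) (hn : n = d) (S : GLn)
    (hpal : ∀ i ≤ n, (S : Mn).charpoly.coeff i = (S : Mn).charpoly.coeff 0 * (S : Mn).charpoly.coeff (n - i)) :
    ∃ m, 0 < m ∧ m ≤ B ∧ (conjP S : MulAut Pn) ^ m = 1 := by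
  obtain ⟨hr⟩ := nonempty_real_four (F := F) hp
  let A := Algebra.adjoin F ({(S : Mn)} : Set Mn)
  letI : CommRing A := { (inferInstance : Ring A) with mul_comm := adjoin_comm _ }
  obtain ⟨m, hm0, hm, c, hc⟩ := cert_spec hel hd hB hr (⟨S, Algebra.self_mem_adjoin_singleton F _⟩ : A)
    (S : Mn).charpoly (by rw [charpoly_natDegree_eq_dim, Fintype.card_fin, hn]) (charpoly_monic _)
    (Subtype.ext ((aeval_algHom_apply A.val _ _).symm.trans (aeval_self_charpoly _))) (hn ▸ hpal)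
  refine ⟨m, hm0, hm, ?_⟩
  rw [← map_pow]
  refine conjP_eq_one_of_scalar (c := c) ?_
  rw [Units.val_pow_eq_pow_val]
  exact congrArg Subtype.val hc

theorem charpoly_pal (g : GLn) :
    ∀ i ≤ n, (sqElt g (1 : F ≃+* F) : Mn).charpoly.coeff i =
      (sqElt g 1 : Mn).charpoly.coeff 0 * (sqElt g 1 : Mn).charpoly.coeff (n - i) := by
  set S := sqElt g (1 : F ≃+* F)
  have h : (S : Mn)⁻¹ = adj g 1 (S : Mn) :=
    Matrix.inv_eq_left_inv (adj_sqElt_mul g 1 fun a => rfl)
  have hinv : ((S : Mn)⁻¹).charpoly = (S : Mn).charpoly := by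
    rw [h, adj, show (S : Mn).map ((1 : F ≃+* F) : F → F) = S from Matrix.ext fun i j => rfl,
      Matrix.coe_units_inv, charpoly_units_conj, charpoly_transpose]
  set χ := (S : Mn).charpoly with hχ
  obtain ⟨ε, hε⟩ : ∃ ε : F, χ = C ε * χ.reverse := by
    refine ⟨(-1) ^ n * Ring.inverse (S : Mn).det, ?_⟩
    rw [hχ, reverse_charpoly]
    rw [hχ] at hinv
    conv_lhs => rw [← hinv, charpoly_inv _ S.isUnit, Fintype.card_fin]
    simp [map_mul, map_pow]
  have hdeg : χ.natDegree = n := by rw [hχ, charpoly_natDegree_eq_dim, Fintype.card_fin]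
  have hco : ∀ i ≤ n, χ.coeff i = ε * χ.coeff (n - i) := fun i hi => by
    conv_lhs => rw [hε]
    rw [coeff_C_mul, coeff_reverse, revAt_le (hdeg.symm ▸ hi), hdeg]
  intro i hi
  have h0 : χ.coeff 0 = ε := by
    rw [hco 0 (Nat.zero_le _), Nat.sub_zero, ← hdeg, (charpoly_monic _).coeff_natDegree, mul_one]
  rw [h0]
  exact hco i hi

end Cfsg.Lib.Known.MaxOrder
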