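import Mathlib

/-!
Counting units of a commutative algebra which is generated by two elements over a subalgebra.
-/

set_option autoImplicit false

namespace Cfsg.Lib.Known.MaxOrder

open Module

/-- A power of `s` lands in `H`, with exponent at most the index. -/
theorem exists_pow_mem_of_comm {G : Type*} [CommGroup G] [Finite G] (H : Subgroup G) (s : G) :
    ∃ k, 0 < k ∧ k * Nat.card H ≤ Nat.card G ∧ s ^ k ∈ H := by
  refine ⟨orderOf (s : G ⧸ H), orderOf_pos _, ?_, ?_⟩
  · rw [Subgroup.card_eq_card_quotient_mul_card_subgroup H]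
    exact Nat.mul_le_mul_right _ (orderOf_le_card)
  · rw [← QuotientGroup.eq_one_iff, QuotientGroup.mk_pow, pow_orderOf_eq_one]

theorem exists_minimal_ideal {B : Type*} [CommRing B] [Finite B] [Nontrivial B] :
    ∃ I : Ideal B, I ≠ ⊥ ∧ ∀ J : Ideal B, J ≤ I → J ≠ ⊥ → J = I := by
  obtain ⟨I, hI, hmin⟩ := (wellFounded_lt (α := Ideal B)).has_min {I | I ≠ ⊥} ⟨⊤, top_ne_bot⟩
  exact ⟨I, hI, fun J hJ hJb => eq_of_le_of_not_lt hJ (hmin J hJb)⟩

/-- The units which are `1` modulo an ideal. -/
def relUnits {A : Type*} [CommRing A] (J : Ideal A) : Subgroup Aˣ :=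
  (Units.map (Ideal.Quotient.mk J).toMonoidHom).ker

theorem mem_relUnits {A : Type*} [CommRing A] {J : Ideal A} {u : Aˣ} :
    u ∈ relUnits J ↔ (u : A) - 1 ∈ J := by
  rw [relUnits, MonoidHom.mem_ker, Units.ext_iff]
  exact (Ideal.Quotient.mk_eq_one_iff_sub_mem _)

instance finite_quotient_ideal {A : Type*} [CommRing A] [Finite A] (J : Ideal A) : Finite (A ⧸ J) :=
  Finite.of_surjective _ Ideal.Quotient.mk_surjective

theorem card_units_le_mul {A : Type*} [CommRing A] [Finite A] (J : Ideal A) :
    Nat.card Aˣ ≤ Nat.card (relUnits J) * Nat.card (A ⧸ J)ˣ := by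
  set φ := Units.map (Ideal.Quotient.mk J).toMonoidHom
  rw [← φ.ker.card_mul_index, Subgroup.index_ker]
  exact Nat.mul_le_mul le_rfl (Nat.card_le_card_of_injective _ Subtype.val_injective)

theorem card_units_eq_mul {A : Type*} [CommRing A] [Finite A] (J : Ideal A)
    (h : Function.Surjective (Units.map (Ideal.Quotient.mk J).toMonoidHom)) :
    Nat.card Aˣ = Nat.card (relUnits J) * Nat.card (A ⧸ J)ˣ := by
  set φ := Units.map (Ideal.Quotient.mk J).toMonoidHom with hφ
  rw [← φ.ker.card_mul_index, Subgroup.index_ker, MonoidHom.range_eq_top.2 h, Subgroup.card_top]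
  rfl

theorem arith_sq {a D D' : ℕ} (h : D' ≤ D) : a ^ D ≤ (a + 1) ^ (D - D') * a ^ D' := by
  calc a ^ D = a ^ (D - D') * a ^ D' := by rw [← pow_add, Nat.sub_add_cancel h]
    _ ≤ _ := Nat.mul_le_mul_right _ (Nat.pow_le_pow_left (Nat.le_succ a) _)

theorem arith_idem {a D D' : ℕ} (ha : 1 ≤ a) (h1 : D' ≤ D) (h2 : D ≤ 2 * D') :
    a ^ D - 1 ≤ (a + 1) ^ (D - D') * (a ^ D' - 1) := by
  rcases Nat.eq_zero_or_pos (D - D') with h | h
  · rw [h, pow_zero, one_mul, show D = D' by omega]
  · have e : a ^ (D - D') + 1 ≤ (a + 1) ^ (D - D') := by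
      simpa using pow_add_pow_le (x := a) (y := 1) (Nat.zero_le _) (Nat.zero_le _) h.ne'
    refine le_trans ?_ (Nat.mul_le_mul_right _ e)
    have hp : a ^ (D - D') * a ^ D' = a ^ D := by rw [← pow_add, Nat.sub_add_cancel h1]
    have hle : a ^ (D - D') ≤ a ^ D' := Nat.pow_le_pow_right ha (by omega)
    have h0 : 1 ≤ a ^ D' := Nat.one_le_pow _ _ ha
    have h0' : 1 ≤ a ^ D := Nat.one_le_pow _ _ ha
    zify [h0, h0'] at hp hle ⊢
    nlinarith

universe u v

theorem units_bound {k : Type u} [Field k] [Finite k] : ∀ (N : ℕ) (B A : Type v) [CommRing B] [CommRing A]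
    [Algebra k B] [Algebra k A] [Finite B] [Finite A] (f : B →ₐ[k] A) (y : A),
    Nat.card B ≤ N → Function.Injective f → (∀ a, ∃ b c, a = f b + y * f c) →
    Nat.card Aˣ ≤ (Nat.card k + 1) ^ (finrank k A - finrank k B) * Nat.card Bˣ := by
  intro N
  induction N with
  | zero =>
    intro B A _ _ _ _ _ _ f y hN
    have := Nat.card_pos (α := B)
    omega
  | succ N ih =>
    intro B A _ _ _ _ _ _ f y hN hf hy
    rcases subsingleton_or_nontrivial B with hB | hB
    · have hA : Subsingleton A := ⟨fun a a' => by
        have h10 : (1 : A) = 0 := by rw [← map_one f, Subsingleton.elim (1 : B) 0, map_zero]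
        rw [← mul_one a, ← mul_one a', h10, mul_zero, mul_zero]⟩
      have hBu : Subsingleton Bˣ := ⟨fun a b => Units.ext (Subsingleton.elim _ _)⟩
      have hAu : Subsingleton Aˣ := ⟨fun a b => Units.ext (Subsingleton.elim _ _)⟩
      rw [Nat.card_of_subsingleton (1 : Aˣ), Nat.card_of_subsingleton (1 : Bˣ), mul_one]
      exact Nat.one_le_pow _ _ (Nat.succ_pos _)
    obtain ⟨I, hI0, hImin⟩ := exists_minimal_ideal (B := B)
    let J : Ideal A := I.map f
    let J' : Ideal B := J.comap f
    have hIJ : I ≤ J' := Ideal.le_comap_map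
    let f' : (B ⧸ J') →ₐ[k] (A ⧸ J) := Ideal.quotientMapₐ J f le_rfl
    have hf' : Function.Injective f' := Ideal.quotientMap_injective
    have hcard : Nat.card (B ⧸ J') ≤ N := by
      have hne : J' ≠ ⊥ := fun h => hI0 (le_bot_iff.1 (h ▸ hIJ))
      have hlt : Nat.card (B ⧸ J') < Nat.card B := by
        have hsurj : Function.Surjective (Ideal.Quotient.mk J') := Ideal.Quotient.mk_surjective
        refine lt_of_le_of_ne (Nat.card_le_card_of_surjective _ hsurj) fun h => hne ?_
        have hb := (Nat.bijective_iff_surjective_and_card _).2 ⟨hsurj, h.symm⟩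
        rw [← Ideal.mk_ker (I := J')]
        exact (RingHom.injective_iff_ker_eq_bot _).1 hb.1
      omega
    have hy' : ∀ a : A ⧸ J, ∃ b c, a = f' b + Ideal.Quotient.mk J y * f' c := by
      intro a
      obtain ⟨a, rfl⟩ := Ideal.Quotient.mk_surjective a
      obtain ⟨b, c, rfl⟩ := hy a
      exact ⟨Ideal.Quotient.mk J' b, Ideal.Quotient.mk J' c, by rw [map_add, map_mul]; rfl⟩
    have hrec := ih (B ⧸ J') (A ⧸ J) f' (Ideal.Quotient.mk J y) hcard hf' hy'
    have hAd : finrank k (A ⧸ J) + finrank k (J.restrictScalars k) = finrank k A :=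
      Submodule.finrank_quotient_add_finrank (J.restrictScalars k)
    have hBd : finrank k (B ⧸ J') + finrank k (J'.restrictScalars k) = finrank k B :=
      Submodule.finrank_quotient_add_finrank (J'.restrictScalars k)
    have hcJ : Nat.card J = Nat.card k ^ finrank k (J.restrictScalars k) :=
      Module.natCard_eq_pow_finrank (K := k) (V := J.restrictScalars k)
    have hcJ' : Nat.card J' = Nat.card k ^ finrank k (J'.restrictScalars k) :=
      Module.natCard_eq_pow_finrank (K := k) (V := J'.restrictScalars k)
    have hinj : ∀ x : J', f (x : B) ∈ J := fun x => x.2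
    have hD : finrank k (J'.restrictScalars k) ≤ finrank k (J.restrictScalars k) := by
      let g : (J'.restrictScalars k) →ₗ[k] (J.restrictScalars k) :=
        LinearMap.codRestrict _ (f.toLinearMap ∘ₗ (J'.restrictScalars k).subtype) fun x => x.2
      exact LinearMap.finrank_le_finrank_of_injective (f := g) fun x x' h =>
        Subtype.ext (hf (congrArg Subtype.val h))
    have hqd : finrank k (B ⧸ J') ≤ finrank k (A ⧸ J) :=
      LinearMap.finrank_le_finrank_of_injective (f := f'.toLinearMap) hf'
    -- the key kernel estimate and surjectivity of the units of `B`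
    have key : Function.Surjective (Units.map (Ideal.Quotient.mk J').toMonoidHom) ∧
        Nat.card (relUnits J) ≤
          (Nat.card k + 1) ^ (finrank k (J.restrictScalars k) - finrank k (J'.restrictScalars k)) *
            Nat.card (relUnits J') := by
      rcases eq_or_ne (I * I) ⊥ with hsq | hsq
      · have hJsq : J * J = ⊥ := by rw [← Ideal.map_mul, hsq, Ideal.map_bot]
        have hJ0 : ∀ x ∈ J, x * x = 0 := fun x hx => by
          rw [← Ideal.mem_bot, ← hJsq]; exact Ideal.mul_mem_mul hx hx
        have hJ'0 : ∀ x ∈ J', x * x = 0 := fun x hx => hf (by rw [map_mul, map_zero]; exact hJ0 _ hx)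
        constructor
        · intro u
          obtain ⟨b, hb⟩ := Ideal.Quotient.mk_surjective (u : B ⧸ J')
          obtain ⟨c, hc⟩ := Ideal.Quotient.mk_surjective ((u⁻¹ : (B ⧸ J')ˣ) : B ⧸ J')
          have hbc : b * c - 1 ∈ J' := by
            rw [← Ideal.Quotient.mk_eq_one_iff_sub_mem, map_mul, hb, hc, Units.mul_inv]
          refine ⟨⟨b, c * (1 - (b * c - 1)), ?_, ?_⟩, Units.ext hb⟩
          · linear_combination -(hJ'0 _ hbc)
          · linear_combination -(hJ'0 _ hbc)
        · have h1 : Nat.card (relUnits J) ≤ Nat.card J :=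
            Nat.card_le_card_of_injective (fun u => (⟨(u : Aˣ) - 1, mem_relUnits.1 u.2⟩ : J))
              fun u v h => Subtype.ext (Units.ext (sub_left_injective (congrArg Subtype.val h)))
          have h2 : Nat.card J' ≤ Nat.card (relUnits J') :=
            Nat.card_le_card_of_injective
              (fun x => (⟨⟨1 + x, 1 - x, by linear_combination -(hJ'0 _ x.2),
                by linear_combination -(hJ'0 _ x.2)⟩, mem_relUnits.2 (by simp)⟩ : relUnits J'))
              fun x z h => Subtype.ext (add_left_cancel (congrArg (fun w => ((w.1 : Bˣ) : B)) h))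
          refine h1.trans (le_trans ?_ (Nat.mul_le_mul_left _ h2))
          rw [hcJ, hcJ']
          exact arith_sq hD
      · have hI2 : IsIdempotentElem I := hImin _ Ideal.mul_le_right hsq
        obtain ⟨e, he, rfl⟩ := (Ideal.isIdempotentElem_iff_of_fg _ (IsNoetherian.noetherian I)).1 hI2
        have he0 : e ≠ 0 := fun h => hI0 (by rw [h]; exact Ideal.span_singleton_eq_bot.2 rfl)
        have hee : e * e = e := he
        have hJdef : J = Ideal.span {f e} := by
          show Ideal.map f (B ∙ e) = _
          rw [Ideal.map_span, Set.image_singleton]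
        have hJfix : ∀ x ∈ J, f e * x = x := fun x hx => by
          obtain ⟨a, rfl⟩ := Ideal.mem_span_singleton'.1 (hJdef ▸ hx)
          linear_combination a * (by rw [← map_mul, hee] : f e * f e = f e)
        have hJ'fix : ∀ x ∈ J', e * x = x := fun x hx => hf (by rw [map_mul]; exact hJfix _ hx)
        have hJ'span : ∀ x ∈ J', x ∈ Ideal.span {e} := fun x hx =>
          hJ'fix x hx ▸ Ideal.mul_mem_right _ _ (Ideal.mem_span_singleton_self e)
        have heJ' : e ∈ J' := hIJ (Ideal.mem_span_singleton_self e)
        have hfe : f e ∈ J := heJ'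
        constructor
        · intro u
          obtain ⟨b, hb⟩ := Ideal.Quotient.mk_surjective (u : B ⧸ J')
          obtain ⟨c, hc⟩ := Ideal.Quotient.mk_surjective ((u⁻¹ : (B ⧸ J')ˣ) : B ⧸ J')
          have hbc : b * c - 1 ∈ J' := by
            rw [← Ideal.Quotient.mk_eq_one_iff_sub_mem, map_mul, hb, hc, Units.mul_inv]
          refine ⟨⟨b * (1 - e) + e, c * (1 - e) + e, ?_, ?_⟩, Units.ext ?_⟩
          · linear_combination (b * c - 1 - b - c + 1 + 1) * hee - hJ'fix _ hbc
          · linear_combination (b * c - 1 - b - c + 1 + 1) * hee - hJ'fix _ hbc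
          · show Ideal.Quotient.mk J' (b * (1 - e) + e) = u
            rw [map_add, map_mul, map_sub, map_one, Ideal.Quotient.eq_zero_iff_mem.2 heJ', sub_zero, mul_one,
              add_zero, hb]
        · have h1 : Nat.card (relUnits J) ≤ Nat.card J - 1 := by
            have hne : ∀ u : relUnits J, f e * ((u : Aˣ) : A) ≠ 0 := fun u h => he0 (hf (by
              rw [map_zero, ← mul_one (f e), ← (u : Aˣ).mul_inv, ← mul_assoc, h, zero_mul]))
            have hle : Nat.card (relUnits J) ≤ Nat.card {x : J // x ≠ 0} :=
              Nat.card_le_card_of_injective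
                (fun u => (⟨⟨f e * ((u : Aˣ) : A), Ideal.mul_mem_right _ _ hfe⟩,
                  fun h => hne u (congrArg Subtype.val h)⟩ : {x : J // x ≠ 0}))
                fun u v h => by
                  have h' : f e * ((u : Aˣ) : A) = f e * ((v : Aˣ) : A) :=
                    congrArg (fun w => ((w.1 : J) : A)) h
                  refine Subtype.ext (Units.ext ?_)
                  linear_combination h' - hJfix _ (mem_relUnits.1 u.2) + hJfix _ (mem_relUnits.1 v.2)
            refine hle.trans (le_of_eq ?_)
            have := Fintype.ofFinite J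
            classical
            rw [Nat.card_eq_fintype_card, Nat.card_eq_fintype_card, Fintype.card_subtype_compl,
              Fintype.card_subtype_eq]
          have h2 : Nat.card J' - 1 ≤ Nat.card (relUnits J') := by
            have hinv : ∀ x : {x : J' // x ≠ 0}, ∃ z, z ∈ J' ∧ ((x.1 : B)) * z = e := by
              rintro ⟨⟨x, hx⟩, hx0⟩
              have hsp : Ideal.span {x} = Ideal.span {e} :=
                hImin _ ((Ideal.span_singleton_le_iff_mem _).2 (hJ'span x hx))
                  fun h => hx0 (Subtype.ext (Ideal.span_singleton_eq_bot.1 h))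
              obtain ⟨z, hz⟩ := Ideal.mem_span_singleton'.1 (hsp ▸ Ideal.mem_span_singleton_self e)
              exact ⟨e * z, Ideal.mul_mem_right _ _ heJ', by
                linear_combination e * hz + hee⟩
            choose z hz hxz using hinv
            have hle : Nat.card {x : J' // x ≠ 0} ≤ Nat.card (relUnits J') :=
              Nat.card_le_card_of_injective
                (fun x => (⟨⟨1 - e + x.1, 1 - e + z x,
                  by linear_combination hxz x - hJ'fix _ (hz x) - hJ'fix _ x.1.2 + hee,
                  by linear_combination hxz x - hJ'fix _ (hz x) - hJ'fix _ x.1.2 + hee⟩,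
                  mem_relUnits.2 (by
                    simpa [sub_add_eq_add_sub, add_sub_assoc] using J'.sub_mem x.1.2 heJ')⟩ : relUnits J'))
                fun x w h => Subtype.ext (Subtype.ext
                  (add_left_cancel (congrArg (fun t => ((t.1 : Bˣ) : B)) h)))
            refine le_of_eq_of_le ?_ hle
            have := Fintype.ofFinite J'
            classical
            rw [Nat.card_eq_fintype_card, Nat.card_eq_fintype_card, Fintype.card_subtype_compl,
              Fintype.card_subtype_eq]
          refine h1.trans (le_trans ?_ (Nat.mul_le_mul_left _ h2))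
          rw [hcJ, hcJ']
          refine arith_idem Nat.card_pos hD ?_
          let g : (J'.restrictScalars k) × (J'.restrictScalars k) →ₗ[k] A :=
            (f.toLinearMap ∘ₗ (J'.restrictScalars k).subtype).coprod
              ((LinearMap.mul k A y) ∘ₗ f.toLinearMap ∘ₗ (J'.restrictScalars k).subtype)
          have hle : J.restrictScalars k ≤ LinearMap.range g := fun x hx => by
            obtain ⟨b, c, hbc⟩ := hy x
            refine ⟨(⟨e * b, Ideal.mul_mem_right _ _ heJ'⟩, ⟨e * c, Ideal.mul_mem_right _ _ heJ'⟩), ?_⟩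
            show f (e * b) + y * f (e * c) = x
            rw [map_mul, map_mul]
            linear_combination -(f e) * hbc + hJfix x hx
          refine le_trans (Submodule.finrank_mono hle) (le_trans (LinearMap.finrank_range_le _) ?_)
          rw [Module.finrank_prod]; omega
    obtain ⟨hsurj, hker⟩ := key
    calc Nat.card Aˣ ≤ Nat.card (relUnits J) * Nat.card (A ⧸ J)ˣ := card_units_le_mul J
      _ ≤ _ := Nat.mul_le_mul hker hrec
      _ = _ := by
        rw [card_units_eq_mul J' hsurj, mul_mul_mul_comm, ← pow_add]
        congr 2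
        omega

end Cfsg.Lib.Known.MaxOrder
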