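import Cfsg.Agent.Known.FieldCosetMain
import Cfsg.Agent.Known.AutPSLn.MaxOrder.Units
import Cfsg.Agent.Known.AutPSLn.MaxOrder.Arith

/-!
Orders in the semilinear cosets of `PSL_n`.
-/

set_option autoImplicit false
set_option linter.unusedSectionVars false

namespace Cfsg.Lib.Known.MaxOrder

open Matrix Polynomial
open Cfsg.Lib.Known.AutPSLn

section Adjoin

variable {k R : Type*} [Field k] [Ring R] [Algebra k R]

theorem card_adjoin_le [Finite k] {S : R} {χ : k[X]} (hm : χ.Monic) (h0 : aeval S χ = 0) {d : ℕ}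
    (hd : χ.natDegree = d) :
    Nat.card (Algebra.adjoin k ({S} : Set R)) ≤ Nat.card k ^ d := by
  let f : (Fin d → k) → R := fun c => ∑ i, c i • S ^ (i : ℕ)
  have hsub : ∀ x : Algebra.adjoin k ({S} : Set R), ∃ c, f c = (x : R) := by
    rintro ⟨x, hx⟩
    rw [Algebra.adjoin_singleton_eq_range_aeval] at hx
    obtain ⟨p, rfl⟩ := hx
    refine ⟨fun i => (p %ₘ χ).coeff i, ?_⟩
    show _ = aeval S p
    rw [← aeval_modByMonic_eq_self_of_root h0]
    rcases eq_or_ne d 0 with rfl | hd0
    · have h1 : χ = 1 := hm.natDegree_eq_zero.1 hd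
      simp [f, h1]
    rw [aeval_eq_sum_range' (n := d) (hd ▸ natDegree_modByMonic_lt p hm
      (fun h => hd0 (by rw [← hd, h, natDegree_one])))]
    exact Fin.sum_univ_eq_sum_range (fun i => (p %ₘ χ).coeff i • S ^ i) d
  choose c hc using hsub
  have h := Nat.card_le_card_of_injective c fun x y hxy => Subtype.ext (by rw [← hc x, ← hc y, hxy])
  rwa [Nat.card_fun, Nat.card_fin] at h

theorem inv_mem_adjoin [Finite R] (S : Rˣ) :
    ((S⁻¹ : Rˣ) : R) ∈ Algebra.adjoin k ({(S : R)} : Set R) := by
  have h : S⁻¹ = S ^ (orderOf S - 1) := inv_eq_of_mul_eq_one_right (by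
    rw [← pow_succ', Nat.sub_add_cancel (orderOf_pos S), pow_orderOf_eq_one])
  rw [h, Units.val_pow_eq_pow_val]
  exact Subalgebra.pow_mem _ (Algebra.self_mem_adjoin_singleton k _) _

/-- A generator of an adjoined algebra as a unit. -/
def genUnit [Finite R] (S : Rˣ) : (Algebra.adjoin k ({(S : R)} : Set R))ˣ :=
  ⟨⟨S, Algebra.self_mem_adjoin_singleton k _⟩, ⟨((S⁻¹ : Rˣ) : R), inv_mem_adjoin S⟩,
    Subtype.ext S.mul_inv, Subtype.ext S.inv_mul⟩

theorem adjoin_comm (S : R) (x y : Algebra.adjoin k ({S} : Set R)) : x * y = y * x := by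
  obtain ⟨x, hx⟩ := x
  obtain ⟨y, hy⟩ := y
  rw [Algebra.adjoin_singleton_eq_range_aeval] at hx hy
  obtain ⟨p, rfl⟩ := hx
  obtain ⟨q, rfl⟩ := hy
  refine Subtype.ext ?_
  show aeval S p * aeval S q = aeval S q * aeval S p
  rw [← map_mul, ← map_mul, mul_comm]

/-- A unit has a scalar power below the number of nonzero algebra elements over nonzero scalars. -/
theorem exists_scalar_pow [Finite k] [Finite R] [Nontrivial R] (S : Rˣ) {χ : k[X]} (hm : χ.Monic)
    (h0 : aeval (S : R) χ = 0) {d : ℕ} (hd : χ.natDegree = d) :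
    ∃ m, 0 < m ∧ m * (Nat.card k - 1) ≤ Nat.card k ^ d - 1 ∧ ∃ c : k, (S : R) ^ m = algebraMap k R c := by
  let A := Algebra.adjoin k ({(S : R)} : Set R)
  letI : CommRing A := { (inferInstance : Ring A) with mul_comm := adjoin_comm (S : R) }
  obtain ⟨m, hm0, hle, hmem⟩ :=
    exists_pow_mem_of_comm (Units.map (algebraMap k A).toMonoidHom).range (genUnit S : Aˣ)
  refine ⟨m, hm0, ?_, ?_⟩
  · have h1 : Nat.card (Units.map (algebraMap k A).toMonoidHom).range = Nat.card k - 1 := by
      rw [← Nat.card_units k]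
      exact (Nat.card_congr (MonoidHom.ofInjective
        (Units.map_injective (f := (algebraMap k A).toMonoidHom) (algebraMap k A).injective)).toEquiv).symm
    have h2 : Nat.card Aˣ < Nat.card A :=
      lt_of_le_of_ne (Nat.card_le_card_of_injective _ Units.val_injective) fun h => by
        obtain ⟨u, hu⟩ := ((Nat.bijective_iff_injective_and_card (fun u : Aˣ => (u : A))).2
          ⟨Units.val_injective, h⟩).2 (0 : A)
        exact u.ne_zero hu
    have h3 : Nat.card A ≤ Nat.card k ^ d := card_adjoin_le hm h0 hd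
    rw [h1] at hle
    omega
  · obtain ⟨c, hc⟩ := hmem
    refine ⟨(c : k), ?_⟩
    have h := congrArg (fun u : Aˣ => ((u : A) : R)) hc
    simp only [Units.coe_map, Units.val_pow_eq_pow_val] at h
    rw [show (algebraMap k R (c : k)) = (((algebraMap k A) (c : k) : A) : R) from rfl]
    exact h.symm

end Adjoin

variable {F : Type*} [Field F] [Fintype F] {n : ℕ}

instance finite_ringEquiv : Finite (F ≃+* F) := Finite.of_injective _ DFunLike.coe_injective

local notation "GLn" => GL (Fin n) F
local notation "Pn" => Matrix.ProjectiveSpecialLinearGroup (Fin n) F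
local notation "Mn" => Matrix (Fin n) (Fin n) F

theorem conjP_eq_one_of_scalar {A : GLn} {c : F} (h : (A : Mn) = algebraMap F Mn c) :
    (conjP A : MulAut Pn) = 1 :=
  conjP_scalar (GeneralLinearGroup.mem_center_iff_val_mem_range_scalar.2
    ⟨c, by rw [h, Matrix.scalar_apply, Matrix.algebraMap_eq_diagonal]; rfl⟩)

/-- The fixed field of a field automorphism. -/
abbrev fixField (σ : F ≃+* F) : Subfield F := σ.toRingHom.eqLocusField (RingHom.id F)

theorem card_fixField (σ : F ≃+* F) : Nat.card (fixField σ) ^ orderOf σ = Fintype.card F := by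
  classical
  let G := Subgroup.zpowers σ
  have := Fintype.ofFinite G
  have hrank := FixedPoints.finrank_eq_card G F
  have hpow := Module.natCard_eq_pow_finrank (K := FixedPoints.subfield G F) (V := F)
  rw [hrank, ← Nat.card_eq_fintype_card, Nat.card_zpowers, Nat.card_eq_fintype_card (α := F)] at hpow
  rw [hpow]
  refine congrArg (· ^ _) (Nat.card_congr (Equiv.subtypeEquivRight fun x => ?_))
  constructor
  · intro hx τ
    obtain ⟨i, hi⟩ := τ.2
    show (τ : F ≃+* F) x = x
    rw [← hi]
    have hfix : ∀ k : ℕ, (σ ^ k) x = x := fun k => by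
      induction k with
      | zero => simp
      | succ k ih => rw [pow_succ', RingAut.mul_apply, ih]; exact hx
    obtain ⟨j, hj⟩ := (mem_powers_iff_mem_zpowers (x := σ) (y := σ ^ i)).2 ⟨i, rfl⟩
    show (σ ^ i) x = x
    rw [← hj]
    exact hfix j
  · intro hx
    exact hx ⟨σ, Subgroup.mem_zpowers σ⟩

/-- The bound on the semilinear cosets. -/
theorem semilinear_bound (hn : 2 ≤ n) (g : GLn) (σ : F ≃+* F) :
    ∃ m, 0 < m ∧ m ≤ orderOf σ * geo n (Nat.card (fixField σ)) ∧
      ((conjP g : MulAut Pn) * fieldP σ) ^ m = 1 := by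
  classical
  haveI : Nonempty (Fin n) := ⟨⟨0, by omega⟩⟩
  set S : GLn := tnorm (glMap σ) g (orderOf σ) with hS
  have hxe : ((conjP g : MulAut Pn) * fieldP σ) ^ orderOf σ = conjP S := by
    rw [mul_twist_pow conjP (glMap σ) (fieldP σ) (fieldP_mul_conjP σ), ← map_pow, pow_orderOf_eq_one, map_one,
      mul_one]
  have hfix : g * glMap σ S = S * g := by
    show tnorm (glMap σ) g (orderOf σ + 1) = _
    rw [tnorm_succ', ← map_pow, pow_orderOf_eq_one, map_one, MulAut.one_apply]
  have hχ : (S : Mn).charpoly.map (σ : F →+* F) = (S : Mn).charpoly := by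
    rw [← Matrix.charpoly_map]
    have : glMap σ S = g⁻¹ * S * g := by rw [mul_assoc, ← hfix, inv_mul_cancel_left]
    have h' := congrArg (fun z : GLn => (z : Mn)) this
    rw [coe_glMap] at h'
    rw [show (S : Mn).map (σ : F →+* F) = (S : Mn).map σ from rfl, h', Units.val_mul, Units.val_mul,
      Matrix.coe_units_inv, charpoly_units_conj']
  have hlift : (S : Mn).charpoly ∈ lifts (fixField σ).subtype := by
    rw [lifts_iff_coeff_lifts]
    intro i
    have := congrArg (fun p => p.coeff i) hχ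
    simp only [coeff_map] at this
    exact ⟨⟨_, this⟩, rfl⟩
  obtain ⟨χ, hχmap, hχdeg, hχm⟩ := lifts_and_degree_eq_and_monic hlift (charpoly_monic _)
  have hd : χ.natDegree = n := by
    rw [natDegree_eq_of_degree_eq hχdeg, charpoly_natDegree_eq_dim, Fintype.card_fin]
  have h0 : aeval (S : Mn) χ = 0 := by
    rw [← aeval_map_algebraMap F (S : Mn) χ]
    show aeval (S : Mn) (χ.map (fixField σ).subtype) = 0
    rw [hχmap, aeval_self_charpoly]
  obtain ⟨m, hm0, hm, c, hc⟩ := exists_scalar_pow S hχm h0 hd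
  refine ⟨orderOf σ * m, Nat.mul_pos (orderOf_pos σ) hm0, Nat.mul_le_mul_left _ ?_, ?_⟩
  · have ha : 1 < Nat.card (fixField σ) := Finite.one_lt_card
    have hg := geo_mul ha.le n
    rw [mul_comm] at hm
    exact Nat.le_of_mul_le_mul_left (hm.trans (by omega)) (by omega)
  · rw [pow_mul, hxe, ← map_pow]
    refine conjP_eq_one_of_scalar (c := (c : F)) ?_
    rw [Units.val_pow_eq_pow_val, hc]
    rfl

end Cfsg.Lib.Known.MaxOrder
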