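import Cfsg.Agent.Known.AutPSLn.MaxOrder.Graph

/-!
The largest element order of `Aut PSL_n`.
-/

set_option autoImplicit false
set_option linter.unusedSectionVars false

namespace Cfsg.Lib.Known.MaxOrder

open Matrix Polynomial
open Cfsg.Lib.Known.AutPSLn

variable {F : Type*} [Field F] [Fintype F] {n : ℕ}

local notation "GLn" => GL (Fin n) F
local notation "Pn" => Matrix.ProjectiveSpecialLinearGroup (Fin n) F
local notation "Mn" => Matrix (Fin n) (Fin n) F

theorem sq_card_four {σ : F ≃+* F} (h : Fintype.card F = 4) : σ ^ 2 = 1 := by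
  classical
  refine RingEquiv.ext fun x => ?_
  show σ (σ x) = x
  by_contra hx
  have h0 : x ≠ 0 := fun e => hx (by simp [e])
  have h1 : x ≠ 1 := fun e => hx (by simp [e])
  have hσ0 : σ x ≠ 0 := by simpa using h0
  have hσ1 : σ x ≠ 1 := by simpa using h1
  have hσσ0 : σ (σ x) ≠ 0 := by simpa using hσ0
  have hσσ1 : σ (σ x) ≠ 1 := by simpa using hσ1
  have hne : σ x ≠ x := fun e => hx (by rw [e, e])
  have hne' : σ (σ x) ≠ σ x := fun e => hne (σ.injective e)
  have := Finset.card_le_univ ({0, 1, x, σ x, σ (σ x)} : Finset F)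
  rw [h, Finset.card_insert_of_notMem, Finset.card_insert_of_notMem, Finset.card_insert_of_notMem,
    Finset.card_pair hne'.symm] at this
  · omega
  · simp [hne.symm, Ne.symm hx]
  · simp [h1.symm, hσ1.symm, hσσ1.symm]
  · simp [h0.symm, hσ0.symm, hσσ0.symm]

theorem geo_one_le {d a : ℕ} (hd : 1 ≤ d) : 1 ≤ geo d a := by
  obtain ⟨e, rfl⟩ := Nat.exists_eq_add_of_le hd
  rw [add_comm, geo_succ]
  omega

theorem mem_two : ∀ a : ZMod 2, a ∈ [(0 : ZMod 2), 1] := by decide

theorem mem_three : ∀ a : ZMod 3, a ∈ [(0 : ZMod 3), 1, 2] := by decide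

theorem mem_four : ∀ a : ZMod 2 × ZMod 2, a ∈ [((0, 0) : ZMod 2 × ZMod 2), (1, 0), (0, 1), (1, 1)] := by decide

theorem orth_case (hn : 3 ≤ n) (h32 : ¬ (n = 3 ∧ Fintype.card F = 2)) (g : GLn) :
    ∃ m, 0 < m ∧ 2 * m ≤ geo n (Fintype.card F) ∧ (conjP (sqElt g (1 : F ≃+* F)) : MulAut Pn) ^ m = 1 := by
  classical
  haveI : Nonempty (Fin n) := ⟨⟨0, by omega⟩⟩
  have hpal := charpoly_pal g
  have wrap : ∀ {B : ℕ}, 2 * B ≤ geo n (Fintype.card F) →
      (∃ m, 0 < m ∧ m ≤ B ∧ (conjP (sqElt g (1 : F ≃+* F)) : MulAut Pn) ^ m = 1) →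
      ∃ m, 0 < m ∧ 2 * m ≤ geo n (Fintype.card F) ∧ (conjP (sqElt g (1 : F ≃+* F)) : MulAut Pn) ^ m = 1 :=
    fun hB ⟨m, h1, h2, h3⟩ => ⟨m, h1, by omega, h3⟩
  haveI : Fact (Nat.Prime 2) := ⟨Nat.prime_two⟩
  haveI : Fact (Nat.Prime 3) := ⟨Nat.prime_three⟩
  by_cases hex : (Fintype.card F = 2 ∧ (n = 3 ∨ n = 4 ∨ n = 5 ∨ n = 6 ∨ n = 8)) ∨
      (Fintype.card F = 3 ∧ (n = 3 ∨ n = 4)) ∨ (Fintype.card F = 4 ∧ n = 4)
  · rcases hex with ⟨hq, hn'⟩ | ⟨hq, hn'⟩ | ⟨hq, hn'⟩
    · rcases hn' with hn' | hn' | hn' | hn' | hn'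
      · exact absurd ⟨hn', hq⟩ h32
      · exact wrap (by rw [hq, hn']; decide) (cert_case mem_two cert_two_four (by norm_num) hq hn' _ hpal)
      · exact wrap (by rw [hq, hn']; decide) (cert_case mem_two cert_two_five (by norm_num) hq hn' _ hpal)
      · exact wrap (by rw [hq, hn']; decide) (cert_case mem_two cert_two_six (by norm_num) hq hn' _ hpal)
      · exact wrap (by rw [hq, hn']; decide) (cert_case mem_two cert_two_eight (by norm_num) hq hn' _ hpal)
    · rcases hn' with hn' | hn'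
      · exact wrap (by rw [hq, hn']; decide) (cert_case mem_three cert_three_three (by norm_num) hq hn' _ hpal)
      · exact wrap (by rw [hq, hn']; decide) (cert_case mem_three cert_three_four (by norm_num) hq hn' _ hpal)
    · exact wrap (by rw [hq, hn']; decide) (cert_case_four mem_four cert_four_four (by norm_num) hq hn' _ hpal)
  · rw [not_or, not_or] at hex
    have hq2 : 2 ≤ Fintype.card F := Fintype.one_lt_card
    let A := alg g (1 : F ≃+* F)
    letI : CommRing A := { (inferInstance : Ring A) with mul_comm := adjoin_comm _ }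
    have h2 : ∀ a : F, (1 : F ≃+* F) ((1 : F ≃+* F) a) = a := fun a => rfl
    let τ : A ≃ₐ[F] A :=
      { toFun := fun X => ⟨adj g 1 X, adj_mem g 1 h2 X.2⟩
        invFun := fun X => ⟨adj g 1 X, adj_mem g 1 h2 X.2⟩
        left_inv := fun X => Subtype.ext (adj_invol g 1 h2 X.2)
        right_inv := fun X => Subtype.ext (adj_invol g 1 h2 X.2)
        map_mul' := fun X Y => by rw [mul_comm X Y]; exact Subtype.ext (adj_mul g 1 (Y : Mn) X)
        map_add' := fun X Y => Subtype.ext (adj_add g 1 (X : Mn) Y)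
        commutes' := fun c => Subtype.ext (adj_algebraMap g 1 c) }
    obtain ⟨m, hm0, hm, hpow⟩ := orth_bound (A := A) τ (fun X => Subtype.ext (adj_invol g 1 h2 X.2))
      (genUnit (sqElt g 1)) (Subtype.ext (adj_sqElt_mul g 1 h2)) (by
        refine eq_top_iff.2 fun x _ => ?_
        obtain ⟨x, hx⟩ := x
        induction hx using Algebra.adjoin_induction with
        | mem y hy =>
          obtain rfl : y = (sqElt g (1 : F ≃+* F) : Mn) := hy
          exact Algebra.self_mem_adjoin_singleton F _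
        | algebraMap c => exact Subalgebra.algebraMap_mem _ c
        | add y z _ _ hy hz => exact add_mem (hy trivial) (hz trivial)
        | mul y z _ _ hy hz => exact mul_mem (hy trivial) (hz trivial)) (finrank_alg_le g 1)
    refine ⟨m, hm0, ?_, ?_⟩
    · rw [Nat.card_eq_fintype_card] at hm
      have := orth_le hq2 n hn hex.1 hex.2.1 hex.2.2
      omega
    · rw [← map_pow]
      refine conjP_eq_one_of_scalar (c := 1) ?_
      rw [map_one, Units.val_pow_eq_pow_val]
      have h := congrArg (fun u : Aˣ => ((u : A) : Mn)) hpow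
      simp only [Units.val_pow_eq_pow_val] at h
      exact h

/-- The upper bound. -/
theorem aut_bound (hn : 2 ≤ n) (h24 : ¬ (n = 2 ∧ Fintype.card F = 4)) (h2 : n = 2 → 4 ≤ Fintype.card F)
    (h32 : ¬ (n = 3 ∧ Fintype.card F = 2)) (x : MulAut Pn) :
    ∃ m, 0 < m ∧ m ≤ geo n (Fintype.card F) ∧ x ^ m = 1 := by
  classical
  obtain ⟨g, σ, γ, hγ, rfl⟩ := exists_decomp_all hn x
  have lin : ∀ (g : GLn) (τ : F ≃+* F), ∃ m, 0 < m ∧ m ≤ geo n (Fintype.card F) ∧
      ((conjP g : MulAut Pn) * fieldP τ) ^ m = 1 := fun g τ => by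
    obtain ⟨m, h0, hm, hx⟩ := semilinear_bound hn g τ
    refine ⟨m, h0, hm.trans ?_, hx⟩
    rw [← card_fixField τ]
    refine lin_le Finite.one_lt_card (orderOf_pos τ) hn fun h => h24 ⟨h.2.2, ?_⟩
    rw [← card_fixField τ, h.1, h.2.1]
    rfl
  rcases hγ with rfl | rfl
  · rw [mul_one]; exact lin g σ
  by_cases hn3 : 3 ≤ n
  swap
  · obtain rfl : n = 2 := by omega
    obtain ⟨g', σ', hdec⟩ : ∃ (g' : GL (Fin 2) F) (σ' : F ≃+* F),
        conjP g * fieldP σ * (graphP : MulAut (Matrix.ProjectiveSpecialLinearGroup (Fin 2) F)) =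
          conjP g' * fieldP σ' := by
      obtain ⟨p, hp⟩ := CharP.exists F
      obtain ⟨k, hprime, hk⟩ := FiniteField.card F p
      have := Fact.mk hprime
      let _ : Algebra (ZMod p) F := ZMod.algebra F p
      obtain ⟨b, a, τ, hb⟩ := AutPSL2.exists_decomp p (f := k) k.pos hk (conjP g * fieldP σ * graphP)
      obtain ⟨M, rfl⟩ := QuotientGroup.mk_surjective b
      exact ⟨SpecialLinearGroup.toGL M * AutPSL2.diagGL a, τ.toRingEquiv, by rw [map_mul, conjP_toGL, hb]; rfl⟩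
    rw [hdec]; exact lin g' σ'
  have hφ : ∀ h : GLn, fieldP σ * (graphP : MulAut Pn) * conjP h =
      conjP (glMap σ (glInvT h)) * (fieldP σ * graphP) := fun h => by
    rw [mul_assoc, graphP_mul_conjP, ← mul_assoc, fieldP_mul_conjP, mul_assoc]
  have hsq : (conjP g * fieldP σ * (graphP : MulAut Pn)) ^ 2 = conjP (sqElt g σ) * fieldP (σ ^ 2) := by
    rw [mul_assoc, pow_two, mul_assoc (conjP g), ← mul_assoc (fieldP σ * graphP) (conjP g), hφ,
      mul_assoc (conjP (glMap σ (glInvT g))), ← pow_two, (fieldP_comm_graphP σ).mul_pow, pow_two graphP,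
      graphP_mul_self, mul_one, ← map_pow, ← mul_assoc, ← map_mul]
    rfl
  suffices H : ∃ m, 0 < m ∧ 2 * m ≤ geo n (Fintype.card F) ∧
      ((conjP (sqElt g σ) : MulAut Pn) * fieldP (σ ^ 2)) ^ m = 1 by
    obtain ⟨m, h0, hm, hx⟩ := H
    exact ⟨2 * m, by omega, hm, by rw [pow_mul, hsq, hx]⟩
  by_cases hσ2 : σ ^ 2 = 1
  · rw [hσ2, map_one, mul_one]
    by_cases hσ : σ = 1
    · subst hσ; exact orth_case hn3 h32 g
    · exact herm_case hn3 g σ hσ hσ2
  · obtain ⟨m, h0, hm, hx⟩ := semilinear_bound hn (sqElt g σ) (σ ^ 2)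
    refine ⟨m, h0, ?_, hx⟩
    have he : 2 ≤ orderOf (σ ^ 2) := by
      have := orderOf_pos (σ ^ 2)
      have : orderOf (σ ^ 2) ≠ 1 := fun h => hσ2 (orderOf_eq_one_iff.1 h)
      omega
    have hle := graph_le (a := Nat.card (fixField (σ ^ 2))) (d := n) Finite.one_lt_card he (fun h => hσ2
      (sq_card_four (by rw [← card_fixField (σ ^ 2), h.1, h.2]; rfl))) hn3
    rw [card_fixField] at hle
    calc 2 * m ≤ 2 * (orderOf (σ ^ 2) * geo n (Nat.card (fixField (σ ^ 2)))) := Nat.mul_le_mul_left 2 hm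
      _ = 2 * orderOf (σ ^ 2) * geo n (Nat.card (fixField (σ ^ 2))) := by ring
      _ ≤ _ := hle

theorem orderOf_bound (hn : 2 ≤ n) (h24 : ¬ (n = 2 ∧ Fintype.card F = 4)) (h2 : n = 2 → 4 ≤ Fintype.card F)
    (h32 : ¬ (n = 3 ∧ Fintype.card F = 2)) (x : MulAut Pn) :
    (Fintype.card F - 1) * orderOf x ≤ Fintype.card F ^ n - 1 := by
  obtain ⟨m, h0, hm, hx⟩ := aut_bound hn h24 h2 h32 x
  have h1 := orderOf_le_of_pow_eq_one h0 hx
  have h3 := Nat.mul_le_mul_left (Fintype.card F - 1) (h1.trans hm)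
  have h4 := geo_mul (a := Fintype.card F) Fintype.card_pos n
  omega

theorem exists_orderOf_ge (hn : 2 ≤ n) :
    ∃ φ : MulAut Pn, Fintype.card F ^ n - 1 ≤ (Fintype.card F - 1) * orderOf φ := by
  classical
  obtain ⟨g, hg⟩ := Cfsg.Lib.Known.exists_gl_orderOf_singer (F := F) n n (by omega) le_rfl
  haveI : Finite (MulAut Pn) := Finite.of_injective _ DFunLike.coe_injective
  refine ⟨conjP g, ?_⟩
  set k := orderOf (conjP g : MulAut Pn)
  have hk : (conjP (g ^ k) : MulAut Pn) * fieldP 1 = 1 := by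
    rw [map_pow, map_one, mul_one, pow_orderOf_eq_one]
  obtain ⟨u, hu⟩ := exists_sc (conjP_fieldP_eq_one hn hk).1 (by omega)
  have hord : g ^ (k * (Fintype.card F - 1)) = 1 := by
    rw [pow_mul, hu, ← map_pow, ← Fintype.card_units, pow_card_eq_one, map_one]
  have hpos : 0 < k * (Fintype.card F - 1) :=
    Nat.mul_pos (orderOf_pos _) (by have := Fintype.one_lt_card (α := F); omega)
  have := orderOf_le_of_pow_eq_one hpos hord
  rw [hg, Nat.card_eq_fintype_card] at this
  rwa [mul_comm]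

end Cfsg.Lib.Known.MaxOrder
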